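import Mathlib
import Cfsg.Agent.ChevSS.Weyl
import Cfsg.Agent.ChevTorus.Order
import Cfsg.Agent.ChevTorus.Generators
import Cfsg.Agent.ChevUnip.Count
import Cfsg.Agent.ChevDefect.Ops

/-!
# The derived parabolic subgroup

The lifts of a parabolic subgroup of the Weyl group by products of fundamental reflections meet the
torus in the torus of its coroots; so does the subgroup generated by `U` and these reflections.
-/

set_option autoImplicit false
set_option linter.unusedSectionVars false

namespace CfsgLib.ChevBrauer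

open Cfsg.Lie CfsgLib CfsgLib.Chevalley CfsgLib.ChevUnip
open CfsgLib.ChevSteinberg (rootPerm_inv_apply rootPerm_apply_inv)
open scoped MatrixGroups

variable {D : ChevalleyDatum} {C : Weyl.Cert D.rank} {M : CoxeterMatrix (Fin D.rank)}
  {R : Weyl.RootTable} {F : Type*} [Field F] (hW : GoodWeyl D) (h : Weyl.RootGood C M R)

local notation "ℓ" => CoxeterSystem.length (CoxeterMatrix.toCoxeterSystem M)

/-- The parameters supported on `K`. -/
def suppSub (F : Type*) [Field F] (K : Finset (Fin D.rank)) : Subgroup (Fin D.rank → Fˣ) where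
  carrier := {c | ∀ i ∉ K, c i = 1}
  one_mem' := fun _ _ => rfl
  mul_mem' := fun {a b} ha hb i hi => by rw [Pi.mul_apply, ha i hi, hb i hi, one_mul]
  inv_mem' := fun {a} ha i hi => by rw [Pi.inv_apply, ha i hi, inv_one]

/-- The torus of the coroots of `K`. -/
def hK (F : Type*) [Field F] (K : Finset (Fin D.rank)) : Subgroup (GL D.Idx F) :=
  (suppSub F K).map (torHom D F)

variable {K : Finset (Fin D.rank)}

include hW in
theorem hK_le_diag : hK F K ≤ D.diagonalSubgroup F := by
  rw [diagonalSubgroup_eq_range hW]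
  rintro _ ⟨c, -, rfl⟩
  exact ⟨c, rfl⟩

include h in
theorem hT_mem_hK {r : Root D} (hr : SuppJ K r) (t : Fˣ) : hT F r t ∈ hK F K := by
  rw [hT_eq_torC]
  refine ⟨_, fun i hi => ?_, rfl⟩
  have := hr i hi
  rw [Weyl.corootAt] at this
  show t ^ _ = 1
  rw [this, zpow_zero]

include h in
theorem hT_pRoot_mem_hK {j : Fin D.rank} (hj : j ∈ K) (t : Fˣ) : hT F (pRoot hW j) t ∈ hK F K := by
  rw [← simpleRoot_eq hW h]
  exact hT_mem_hK h (suppJ_simpleRoot h hj) t

include hW h in
theorem nR_conj_hK {j : Fin D.rank} (hj : j ∈ K) {g : GL D.Idx F} (hg : g ∈ hK F K) :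
    nR hW j * g * (nR hW j)⁻¹ ∈ hK F K := by
  obtain ⟨c, hc, rfl⟩ := hg
  show nR hW j * torC D c * (nR hW j)⁻¹ ∈ _
  rw [torC_eq_prod hW, show ∀ x : GL D.Idx F, nR hW j * x * (nR hW j)⁻¹ = MulAut.conj (nR hW j) x
    from fun x => rfl, map_list_prod]
  refine Subgroup.list_prod_mem _ fun x hx => ?_
  simp only [List.mem_map] at hx
  obtain ⟨_, ⟨i, -, rfl⟩, rfl⟩ := hx
  rw [MulAut.conj_apply, nR_conj_hT]
  by_cases hi : i ∈ K
  · refine hT_mem_hK h ?_ _
    rw [wPerm_eq_rootPerm hW h, suppJ_apply_iff h (simple_mem_wSub hj), ← simpleRoot_eq hW h]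
    exact suppJ_simpleRoot h hi
  · rw [hc i hi, hT_one]
    exact one_mem _

include hW h in
theorem nR_inv_mem {j : Fin D.rank} (hj : j ∈ K) :
    ∃ z ∈ hK F K, (nR hW j : GL D.Idx F)⁻¹ = z * nR hW j :=
  ⟨(nR hW j * nR hW j)⁻¹, inv_mem (by rw [nR_sq hW]; exact hT_pRoot_mem_hK hW h hj _), by group⟩

include hW h in
theorem nR_inv_conj_hK {j : Fin D.rank} (hj : j ∈ K) {g : GL D.Idx F} (hg : g ∈ hK F K) :
    (nR hW j)⁻¹ * g * nR hW j ∈ hK F K := by
  obtain ⟨z, hz, e⟩ := nR_inv_mem (F := F) hW h hj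
  rw [e, show z * nR hW j * g * nR hW j =
    z * (nR hW j * g * (nR hW j)⁻¹) * (nR hW j * nR hW j) by group]
  exact mul_mem (mul_mem hz (nR_conj_hK hW h hj hg)) (by rw [nR_sq hW]; exact hT_pRoot_mem_hK hW h hj _)

/-- The product of a word in the fundamental reflections. -/
def wordLift (F : Type*) [Field F] (L : List (Fin D.rank)) : GL D.Idx F := (L.map (nR hW)).prod

theorem wordLift_cons (j : Fin D.rank) (L : List (Fin D.rank)) :
    wordLift hW F (j :: L) = nR hW j * wordLift hW F L := by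
  rw [wordLift, List.map_cons, List.prod_cons]
  rfl

theorem wordLift_append (A B : List (Fin D.rank)) :
    wordLift hW F (A ++ B) = wordLift hW F A * wordLift hW F B := by
  rw [wordLift, List.map_append, List.prod_append]
  rfl

/-- The element of the Weyl group of a word. -/
def wordProd (M : CoxeterMatrix (Fin D.rank)) (L : List (Fin D.rank)) : M.Group :=
  (L.map M.simple).prod

theorem wordProd_cons (j : Fin D.rank) (L : List (Fin D.rank)) :
    wordProd M (j :: L) = M.simple j * wordProd M L := by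
  rw [wordProd, List.map_cons, List.prod_cons]
  rfl

theorem monBy_wordLift (L : List (Fin D.rank)) :
    MonBy hW (wordLift hW F L : GL D.Idx F) (h.rootPerm (wordProd M L)) := by
  induction L with
  | nil => simpa [wordLift, wordProd] using MonBy.one (F := F) hW
  | cons j L ih =>
    rw [wordLift_cons, wordProd_cons, map_mul, ← wPerm_eq_rootPerm hW h]
    exact (monBy_nR hW j).mul ih

theorem wordLift_mem (L : List (Fin D.rank)) : wordLift hW F L ∈ D.monomialSubgroup F :=
  Subgroup.list_prod_mem _ fun x hx => by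
    obtain ⟨j, -, rfl⟩ := List.mem_map.1 hx
    exact nR_mem_monomial hW j

theorem wordProd_mem {L : List (Fin D.rank)} (hL : ∀ j ∈ L, j ∈ K) : wordProd M L ∈ wSub M K :=
  Subgroup.list_prod_mem _ fun x hx => by
    obtain ⟨j, hj, rfl⟩ := List.mem_map.1 hx
    exact simple_mem_wSub (hL j hj)

include hW h in
theorem wordLift_conj_hK {L : List (Fin D.rank)} (hL : ∀ j ∈ L, j ∈ K) {g : GL D.Idx F}
    (hg : g ∈ hK F K) : wordLift hW F L * g * (wordLift hW F L)⁻¹ ∈ hK F K := by
  induction L with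
  | nil => simpa [wordLift] using hg
  | cons j L ih =>
    rw [wordLift_cons, show ∀ n w : GL D.Idx F, n * w * g * (n * w)⁻¹ = n * (w * g * w⁻¹) * n⁻¹
      from fun n w => by group]
    exact nR_conj_hK hW h (hL j List.mem_cons_self) (ih fun i hi => hL i (List.mem_cons_of_mem j hi))

include h in
/-- The first letter at which a root changes sign. -/
theorem exists_letter : ∀ {L : List (Fin D.rank)} {r : Fin D.nroots}, Weyl.PosIdx r →
    ¬ Weyl.PosIdx (h.rootPerm (wordProd M L)⁻¹ r) →
    ∃ A j B, L = A ++ j :: B ∧ h.rootPerm (wordProd M A) (h.simpleRoot j) = r := by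
  intro L
  induction L with
  | nil =>
    intro r hr hn
    simp [wordProd] at hn
    exact absurd hr hn
  | cons j L ih =>
    intro r hr hn
    by_cases hrj : r = h.simpleRoot j
    · exact ⟨[], j, L, rfl, by simp [wordProd, hrj]⟩
    · rw [wordProd_cons, mul_inv_rev, ChevSteinberg.simple_inv, map_mul, Equiv.Perm.mul_apply] at hn
      obtain ⟨A, i, B, rfl, e⟩ := ih (h.pos_simple_apply hrj hr) hn
      refine ⟨j :: A, i, B, rfl, ?_⟩
      rw [wordProd_cons, map_mul, Equiv.Perm.mul_apply, e, h.simple_apply_apply]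

include hW h in
/-- A product of reflections in `K` is one along a reduced word times an element of the torus of
`K`. -/
theorem exists_reduced : ∀ (L : List (Fin D.rank)), (∀ j ∈ L, j ∈ K) →
    ∃ L' : List (Fin D.rank), (∀ j ∈ L', j ∈ K) ∧ L'.length = ℓ (wordProd M L') ∧
      ∃ z ∈ hK F K, wordLift hW F L = z * wordLift hW F L' := by
  intro L
  induction L with
  | nil => exact fun _ => ⟨[], by simp, by simp [wordProd], 1, one_mem _, (one_mul _).symm⟩
  | cons i L ih =>
    intro hL
    have hi : i ∈ K := hL i List.mem_cons_self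
    obtain ⟨L', hL', hlen, z, hz, e⟩ := ih fun j hj => hL j (List.mem_cons_of_mem i hj)
    have hsplit : wordLift hW F (i :: L) =
        nR hW i * z * (nR hW i)⁻¹ * wordLift hW F (i :: L') := by
      rw [wordLift_cons, wordLift_cons, e]
      group
    by_cases hup : Weyl.PosIdx (h.rootPerm (wordProd M L')⁻¹ (h.simpleRoot i))
    · refine ⟨i :: L', fun j hj => ?_, ?_, _, nR_conj_hK hW h hi hz, hsplit⟩
      · rcases List.mem_cons.1 hj with rfl | hj
        · exact hi
        · exact hL' j hj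
      · have := (goesUp_iff hW h i (wordProd M L')).1 (by
          rw [GoesUp, ← simpleRoot_eq hW h, ← posIdx_iff hW.good h]; exact hup)
        rw [List.length_cons, hlen, wordProd_cons, this]
    · obtain ⟨A, j, B, rfl, hA⟩ := exists_letter h (h.pos_simpleRoot i) hup
      have hAK : ∀ a ∈ A, a ∈ K := fun a ha => hL' a (List.mem_append_left _ ha)
      have hBK : ∀ a ∈ B, a ∈ K := fun a ha =>
        hL' a (List.mem_append_right _ (List.mem_cons_of_mem j ha))
      have hAB : ∀ a ∈ A ++ B, a ∈ K := fun a ha => (List.mem_append.1 ha).elim (hAK a) (hBK a)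
      obtain ⟨u, hu⟩ := (monBy_wordLift (F := F) hW h A).conj_nElt (pRoot hW j) 1
      rw [nElt_one, ← simpleRoot_eq hW h j, hA, simpleRoot_eq hW h i,
        show nElt hW.good (pRoot hW i) u = hT F (pRoot hW i) u * nR hW i from nWord_eq hW i u] at hu
      have e2 : wordLift hW F (i :: (A ++ j :: B)) =
          nR hW i * hT F (pRoot hW i) u * nR hW i * wordLift hW F (A ++ B) := by
        rw [wordLift_cons, wordLift_append, wordLift_cons, wordLift_append,
          show wordLift hW F A * (nR hW j * wordLift hW F B) =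
            (wordLift hW F A * nR hW j * (wordLift hW F A)⁻¹) *
              (wordLift hW F A * wordLift hW F B) by group, hu]
        group
      refine ⟨A ++ B, hAB, ?_, nR hW i * z * (nR hW i)⁻¹ *
        ((nR hW i * hT F (pRoot hW i) u * (nR hW i)⁻¹) * (nR hW i * nR hW i)), ?_, ?_⟩
      · -- the shorter word is reduced
        have hsimp : wordProd M A * M.simple j = M.simple i * wordProd M A :=
          ChevSteinberg.mul_simple_eq h hA
        have hprod : wordProd M (A ++ j :: B) = M.simple i * wordProd M (A ++ B) := by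
          simp only [wordProd, List.map_append, List.prod_append, List.map_cons, List.prod_cons]
          rw [← mul_assoc]
          erw [hsimp]
          rw [mul_assoc]
          rfl
        have h1 : ℓ (wordProd M (A ++ B)) ≤ (A ++ B).length :=
          M.toCoxeterSystem.length_wordProd_le (A ++ B)
        have h2 := M.toCoxeterSystem.length_simple_mul (wordProd M (A ++ B)) i
        rw [CoxeterMatrix.toCoxeterSystem_simple, ← hprod, ← hlen] at h2
        simp only [List.length_append, List.length_cons] at h1 h2 ⊢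
        omega
      · exact mul_mem (nR_conj_hK hW h hi hz) (mul_mem
          (nR_conj_hK hW h hi (hT_pRoot_mem_hK hW h hi u))
          (by rw [nR_sq hW]; exact hT_pRoot_mem_hK hW h hi _))
      · rw [hsplit, e2]
        group

/-- The lifts of `W_K`. -/
def IsLift (F : Type*) [Field F] (K : Finset (Fin D.rank)) (n : GL D.Idx F) : Prop :=
  ∃ L : List (Fin D.rank), (∀ j ∈ L, j ∈ K) ∧ ∃ z ∈ hK F K, n = z * wordLift hW F L

theorem isLift_one : IsLift hW F K (1 : GL D.Idx F) :=
  ⟨[], by simp, 1, one_mem _, by simp [wordLift]⟩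

variable {n : GL D.Idx F}

theorem IsLift.hK_mul (hn : IsLift hW F K n) {z : GL D.Idx F} (hz : z ∈ hK F K) :
    IsLift hW F K (z * n) := by
  obtain ⟨L, hL, y, hy, rfl⟩ := hn
  exact ⟨L, hL, z * y, mul_mem hz hy, (mul_assoc _ _ _).symm⟩

include h in
theorem IsLift.nR_mul (hn : IsLift hW F K n) {j : Fin D.rank} (hj : j ∈ K) :
    IsLift hW F K (nR hW j * n) := by
  obtain ⟨L, hL, y, hy, rfl⟩ := hn
  refine ⟨j :: L, fun i hi => ?_, _, nR_conj_hK hW h hj hy, by rw [wordLift_cons]; group⟩
  rcases List.mem_cons.1 hi with rfl | hi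
  · exact hj
  · exact hL i hi

theorem IsLift.mem_monomial (hn : IsLift hW F K n) : n ∈ D.monomialSubgroup F := by
  obtain ⟨L, -, y, hy, rfl⟩ := hn
  exact mul_mem (diag_le_monomial D (hK_le_diag hW hy)) (wordLift_mem hW L)

include h in
theorem IsLift.exists_monBy (hn : IsLift hW F K n) :
    ∃ x ∈ wSub M K, MonBy hW n (h.rootPerm x) := by
  obtain ⟨L, hL, y, hy, rfl⟩ := hn
  refine ⟨_, wordProd_mem hL, ?_⟩
  have := (monBy_diag hW (hK_le_diag hW hy)).mul (monBy_wordLift (F := F) hW h L)
  rwa [one_mul] at this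

include h in
/-- A lift of the identity lies in the torus of `K`. -/
theorem IsLift.mem_hK (hn : IsLift hW F K n) (h1 : MonBy hW n 1) : n ∈ hK F K := by
  obtain ⟨L, hL, y, hy, rfl⟩ := hn
  obtain ⟨L', -, hlen, z, hz, e⟩ := exists_reduced (F := F) hW h L hL
  rw [e, ← mul_assoc] at h1 ⊢
  have h2 := (monBy_diag hW (hK_le_diag hW (mul_mem hy hz))).mul (monBy_wordLift (F := F) hW h L')
  rw [one_mul] at h2
  have h3 : wordProd M L' = 1 := h.rootPerm_injective ((h2.unique h1).trans (map_one _).symm)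
  rw [h3, CoxeterSystem.length_one] at hlen
  rw [List.eq_nil_of_length_eq_zero hlen, show wordLift hW F ([] : List (Fin D.rank)) = 1 from rfl,
    mul_one]
  exact mul_mem hy hz

/-- The group generated by `U` and the reflections of `K`. -/
def derPar (F : Type*) [Field F] (K : Finset (Fin D.rank)) : Subgroup (GL D.Idx F) :=
  Subgroup.closure ((D.posUnipotent F : Set (GL D.Idx F)) ∪ nR hW '' (K : Set (Fin D.rank)))

theorem pos_le_derPar : D.posUnipotent F ≤ derPar hW F K := fun _ hu =>
  Subgroup.subset_closure (Or.inl hu)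

theorem nR_mem_derPar {j : Fin D.rank} (hj : j ∈ K) : nR hW j ∈ derPar hW F K :=
  Subgroup.subset_closure (Or.inr ⟨j, hj, rfl⟩)

include hW h in
theorem hK_normalizes_pos {z u : GL D.Idx F} (hz : z ∈ hK F K) (hu : u ∈ D.posUnipotent F) :
    z * u * z⁻¹ ∈ D.posUnipotent F :=
  (Subgroup.mem_normalizer_iff.1 (diag_le_normalizer_pos hW (hK_le_diag hW hz)) u).1 hu

include h in
theorem exists_form_of_mem {g : GL D.Idx F} (hg : g ∈ derPar hW F K) :
    ∃ u ∈ D.posUnipotent F, ∃ n, IsLift hW F K n ∧ ∃ u' ∈ D.posUnipotent F, g = u * n * u' := by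
  set S : Set (GL D.Idx F) :=
    {g | ∃ u ∈ D.posUnipotent F, ∃ n, IsLift hW F K n ∧ ∃ u' ∈ D.posUnipotent F, g = u * n * u'}
  have hU : ∀ u ∈ D.posUnipotent F, ∀ s ∈ S, u * s ∈ S := by
    rintro u hu s ⟨u₁, hu₁, n, hn, u₂, hu₂, rfl⟩
    exact ⟨u * u₁, mul_mem hu hu₁, n, hn, u₂, hu₂, by group⟩
  have hH : ∀ z ∈ hK F K, ∀ s ∈ S, z * s ∈ S := by
    rintro z hz s ⟨u₁, hu₁, n, hn, u₂, hu₂, rfl⟩
    exact ⟨z * u₁ * z⁻¹, hK_normalizes_pos hW h hz hu₁, z * n, hn.hK_mul hW hz, u₂, hu₂, by group⟩
  have hN : ∀ j ∈ K, ∀ s ∈ S, nR hW j * s ∈ S := by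
    rintro j hj s ⟨u, hu, n, hn, u', hu', rfl⟩
    obtain ⟨v, hv, t, rfl⟩ := exists_split_pos hW j hu
    have hv' : nR hW j * v * (nR hW j)⁻¹ ∈ D.posUnipotent F :=
      rootGen_posCompl_le hW j (nR_conj_posCompl hW j hv)
    rw [show nR hW j * (v * X hW.good (pRoot hW j) t * n * u') =
      nR hW j * v * (nR hW j)⁻¹ * (nR hW j * X hW.good (pRoot hW j) t * n * u') by group]
    refine hU _ hv' _ ?_
    obtain ⟨x, -, hx⟩ := hn.exists_monBy hW h
    by_cases hpos : Weyl.PosIdx (h.rootPerm x⁻¹ (h.simpleRoot j))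
    · obtain ⟨c, hc⟩ := hx.inv.conj_X (pRoot hW j)
      rw [inv_inv, ← map_inv, ← simpleRoot_eq hW h j] at hc
      refine ⟨1, one_mem _, nR hW j * n, hn.nR_mul hW h hj,
        X hW.good (h.rootPerm x⁻¹ (h.simpleRoot j)) ((c : F) * t) * u',
        mul_mem (X_mem_pos hW.good ((posIdx_iff hW.good h _).1 hpos) _) hu', ?_⟩
      rw [← hc t, simpleRoot_eq hW h j]
      group
    · by_cases ht : t = 0
      · subst ht
        refine ⟨1, one_mem _, nR hW j * n, hn.nR_mul hW h hj, u', hu', ?_⟩
        rw [X_zero]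
        group
      · set a : Fˣ := -(Units.mk0 t ht)⁻¹ with ha
        have h1 := ChevDefect.X_rev_eq hW j a
        have h2 := ChevDefect.nR_conj_X' hW j t
        rw [show ((a⁻¹ : Fˣ) : F) = -t by rw [ha]; simp] at h1
        rw [← h1] at h2
        set n₁ := nR hW j * n
        have hx₁ : MonBy hW n₁ (h.rootPerm (M.simple j * x)) := by
          rw [map_mul, ← wPerm_eq_rootPerm hW h]
          exact (monBy_nR hW j).mul hx
        have hpos₁ : Weyl.PosIdx (h.rootPerm (M.simple j * x)⁻¹ (h.simpleRoot j)) := by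
          rw [mul_inv_rev, ChevSteinberg.simple_inv, map_mul, Equiv.Perm.mul_apply,
            h.rootPerm_simple_simpleRoot, h.rootPerm_neg, h.pos_negRoot]
          exact hpos
        obtain ⟨c, hc⟩ := hx₁.inv.conj_X (pRoot hW j)
        rw [inv_inv, ← map_inv, ← simpleRoot_eq hW h j] at hc
        refine ⟨X hW.good (pRoot hW j) (a : F), X_mem_pos hW.good (pRoot_pos hW j) _,
          hT F (pRoot hW j) (-a) * (nR hW j * n₁),
          ((hn.nR_mul hW h hj).nR_mul hW h hj).hK_mul hW (hT_pRoot_mem_hK hW h hj _),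
          X hW.good (h.rootPerm (M.simple j * x)⁻¹ (h.simpleRoot j)) ((c : F) * (a : F)) * u',
          mul_mem (X_mem_pos hW.good ((posIdx_iff hW.good h _).1 hpos₁) _) hu', ?_⟩
        rw [← hc (a : F), simpleRoot_eq hW h j]
        calc nR hW j * X hW.good (pRoot hW j) t * n * u'
            = (nR hW j * X hW.good (pRoot hW j) t * (nR hW j)⁻¹) * n₁ * u' := by
              simp only [n₁]; group
          _ = _ := by rw [h2]; group
  have h1 : (1 : GL D.Idx F) ∈ S :=
    ⟨1, one_mem _, 1, isLift_one hW, 1, one_mem _, by group⟩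
  have : ∀ s ∈ S, g * s ∈ S := by
    induction hg using Subgroup.closure_induction_left with
    | one => simp
    | mul_left x hx y _ ih =>
      intro s hs
      rw [mul_assoc]
      rcases hx with hx | ⟨j, hj, rfl⟩
      · exact hU x hx _ (ih s hs)
      · exact hN j hj _ (ih s hs)
    | inv_mul_cancel x hx y _ ih =>
      intro s hs
      rw [mul_assoc]
      rcases hx with hx | ⟨j, hj, rfl⟩
      · exact hU _ (inv_mem hx) _ (ih s hs)
      · obtain ⟨z, hz, e⟩ := nR_inv_mem (F := F) hW h hj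
        rw [e, mul_assoc z]
        exact hH z hz _ (hN j hj _ (ih s hs))
  have := this 1 h1
  rwa [mul_one] at this

include hW h in
theorem mem_hK_of_diag {d : GL D.Idx F} (hd : d ∈ D.diagonalSubgroup F)
    {u v z : GL D.Idx F} (hu : u ∈ D.posUnipotent F) (hv : v ∈ D.posUnipotent F)
    (hz : z ∈ hK F K) (e : d = u * z * v) : d ∈ hK F K := by
  have h1 : d * z⁻¹ ∈ D.posUnipotent F ⊓ D.diagonalSubgroup F := by
    refine Subgroup.mem_inf.2 ⟨?_, mul_mem hd (inv_mem (hK_le_diag hW hz))⟩
    rw [e, show u * z * v * z⁻¹ = u * (z * v * z⁻¹) by group]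
    exact mul_mem hu (hK_normalizes_pos hW h hz hv)
  rw [pos_inf_diag hW, Subgroup.mem_bot, mul_inv_eq_one] at h1
  exact h1 ▸ hz

include h in
/-- The Borel part of the derived parabolic. -/
theorem borel_form {g : GL D.Idx F} (hg : g ∈ derPar hW F K) (hb : g ∈ D.borelSubgroup F) :
    ∃ u ∈ D.posUnipotent F, ∃ z ∈ hK F K, ∃ v ∈ D.posUnipotent F, g = u * z * v := by
  obtain ⟨u, hu, n, hn, v, hv, rfl⟩ := exists_form_of_mem hW h hg
  have hnb : n ∈ D.borelSubgroup F ⊓ D.monomialSubgroup F := by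
    refine Subgroup.mem_inf.2 ⟨?_, hn.mem_monomial hW⟩
    have := mul_mem (mul_mem (inv_mem (pos_le_borel D hu)) hb) (inv_mem (pos_le_borel D hv))
    rwa [show u⁻¹ * (u * n * v) * v⁻¹ = n by group] at this
  rw [borel_inf_monomial hW h] at hnb
  exact ⟨u, hu, n, hn.mem_hK hW h (monBy_diag hW hnb), v, hv, rfl⟩

end CfsgLib.ChevBrauer
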