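import Mathlib
import Cfsg.Agent.BlocksCyclic.Traces

/-!
# Brauer's count of simple modules

In characteristic `p` over an algebraically closed field the simple modules of a finite group are as
many as the classes of elements of order prime to `p`: traces of distinct simple modules are
independent on these classes, and the monomial modules `k[G/P]` twisted by a regular element
centralised by `P` separate the classes.
-/

set_option autoImplicit false
set_option linter.unusedSectionVars false
set_option linter.style.haveILetI false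

namespace CfsgLib.ChevBrauer

universe u v w

/-- The classes of elements of order prime to `p`. -/
abbrev RegClass (p : ℕ) (G : Type u) [Group G] : Type u :=
  {C : ConjClasses G // ∃ g : G, ConjClasses.mk g = C ∧ (orderOf g).Coprime p}

section Trace

variable {k : Type v} [Field k] {V : Type w} [AddCommGroup V] [Module k V] [FiniteDimensional k V]

/-- The trace is additive along a stable subspace. -/
theorem trace_eq_restrict_add_mapQ (f : Module.End k V) (W : Submodule k V)
    (hW : ∀ x ∈ W, f x ∈ W) :
    LinearMap.trace k V f = LinearMap.trace k W (f.restrict hW) +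
      LinearMap.trace k (V ⧸ W) (W.mapQ W f hW) := by
  obtain ⟨q, hq⟩ := W.exists_isCompl
  set π := W.projectionOnto q hq
  set e := Submodule.quotientEquivOfIsCompl W q hq
  set s : (V ⧸ W) →ₗ[k] V := q.subtype ∘ₗ e.toLinearMap
  have hsum : ∀ x : V, ((π x : W) : V) + s (W.mkQ x) = x := by
    intro x
    obtain ⟨a, ha, b, hb, rfl⟩ :=
      Submodule.mem_sup.1 (show x ∈ W ⊔ q by rw [hq.sup_eq_top]; trivial)
    have h1 : (π (a + b) : V) = a := by
      rw [map_add, show π a = ⟨a, ha⟩ from Submodule.projectionOnto_apply_left hq ⟨a, ha⟩,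
        show π b = 0 from Submodule.projectionOnto_apply_right hq ⟨b, hb⟩, add_zero]
    have h2 : s (W.mkQ (a + b)) = b := by
      show ((e (Submodule.Quotient.mk (a + b)) : q) : V) = b
      rw [Submodule.Quotient.mk_add, (Submodule.Quotient.mk_eq_zero W).2 ha, zero_add]
      exact congrArg Subtype.val (Submodule.quotientEquivOfIsCompl_apply_mk_right hq ⟨b, hb⟩)
    rw [h1, h2]
  have hs : W.mkQ ∘ₗ s = LinearMap.id := by
    refine LinearMap.ext fun x => ?_
    obtain ⟨x, rfl⟩ := W.mkQ_surjective x
    have := congrArg W.mkQ (hsum x)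
    rw [map_add, show W.mkQ ((π x : W) : V) = 0 from (Submodule.Quotient.mk_eq_zero W).2 (π x).2,
      zero_add] at this
    exact this
  have hsplit : f = (f ∘ₗ W.subtype) ∘ₗ π + (f ∘ₗ s) ∘ₗ W.mkQ := by
    refine LinearMap.ext fun x => ?_
    show f x = f ((π x : W) : V) + f (s (W.mkQ x))
    rw [← map_add, hsum]
  conv_lhs => rw [hsplit]
  rw [map_add]
  congr 1
  · rw [LinearMap.trace_comp_comm']
    congr 1
    exact LinearMap.ext fun x => Submodule.projectionOnto_apply_left hq ⟨f x, hW x x.2⟩
  · rw [LinearMap.trace_comp_comm']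
    congr 1
    refine LinearMap.ext fun x => ?_
    show W.mkQ (f (s x)) = W.mapQ W f hW x
    conv_rhs => rw [show x = W.mkQ (s x) from (congrArg (fun g => g x) hs).symm]
    rfl

end Trace

section Group

variable {k : Type v} [Field k] {G : Type u} [Group G]

/-- The subrepresentation on a stable subspace. -/
def subRep {V : Type w} [AddCommGroup V] [Module k V] (ρ : Representation k G V)
    (W : Submodule k V) (hW : ∀ g, ∀ x ∈ W, ρ g x ∈ W) : Representation k G W where
  toFun g := (ρ g).restrict (hW g)
  map_one' := LinearMap.ext fun x => Subtype.ext (by simp [LinearMap.restrict_apply])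
  map_mul' g h := LinearMap.ext fun x => Subtype.ext (by simp [LinearMap.restrict_apply])

/-- The quotient representation by a stable subspace. -/
def quotRep {V : Type w} [AddCommGroup V] [Module k V] (ρ : Representation k G V)
    (W : Submodule k V) (hW : ∀ g, ∀ x ∈ W, ρ g x ∈ W) : Representation k G (V ⧸ W) where
  toFun g := W.mapQ W (ρ g) (hW g)
  map_one' := LinearMap.ext fun x => by
    obtain ⟨x, rfl⟩ := W.mkQ_surjective x
    simp
  map_mul' g h := LinearMap.ext fun x => by
    obtain ⟨x, rfl⟩ := W.mkQ_surjective x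
    simp

@[simp] theorem coe_subRep {V : Type w} [AddCommGroup V] [Module k V] (ρ : Representation k G V)
    (W : Submodule k V) (hW : ∀ g, ∀ x ∈ W, ρ g x ∈ W) (g : G) (x : W) :
    (subRep ρ W hW g x : V) = ρ g x := rfl

/-- No stable subspaces except the trivial ones. -/
def Simple {V : Type w} [AddCommGroup V] [Module k V] (ρ : Representation k G V) : Prop :=
  Nontrivial V ∧ ∀ W : Submodule k V, (∀ g : G, ∀ x ∈ W, ρ g x ∈ W) → W = ⊥ ∨ W = ⊤

/-- A simple subrepresentation inside a nonzero stable subspace. -/
theorem exists_simple_le {V : Type w} [AddCommGroup V] [Module k V] [FiniteDimensional k V]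
    (ρ : Representation k G V) (E : Submodule k V) (hE : ∀ g, ∀ x ∈ E, ρ g x ∈ E) (h0 : E ≠ ⊥) :
    ∃ (S : Submodule k V) (hS : ∀ g, ∀ x ∈ S, ρ g x ∈ S), S ≤ E ∧ Simple (subRep ρ S hS) := by
  classical
  generalize hn : Module.finrank k E = n
  induction n using Nat.strong_induction_on generalizing E with
  | _ n ih =>
    by_cases hs : Simple (subRep ρ E hE)
    · exact ⟨E, hE, le_rfl, hs⟩
    have hnt : Nontrivial E := Submodule.nontrivial_iff_ne_bot.2 h0
    rw [Simple, not_and] at hs
    obtain ⟨W, hW⟩ := not_forall.1 (hs hnt)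
    rw [Classical.not_imp, not_or] at hW
    obtain ⟨hWst, hW0, hWt⟩ := hW
    have hst : ∀ g, ∀ x ∈ W.map E.subtype, ρ g x ∈ W.map E.subtype := by
      rintro g _ ⟨x, hx, rfl⟩
      exact ⟨_, hWst g x hx, rfl⟩
    have hlt : Module.finrank k (W.map E.subtype) < n := by
      rw [← hn, Submodule.finrank_map_subtype_eq]
      exact Submodule.finrank_lt hWt
    obtain ⟨S, hS, hle, hsim⟩ := ih _ hlt (W.map E.subtype) hst
      (fun e => hW0 (Submodule.map_injective_of_injective E.subtype_injective
        (e.trans (Submodule.map_bot _).symm))) rfl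
    exact ⟨S, hS, hle.trans (Submodule.map_subtype_le _ _), hsim⟩

variable [Finite G] {p : ℕ} [Fact p.Prime]

theorem exists_regular_part (g : G) :
    ∃ z u : G, g = z * u ∧ Commute z u ∧ (orderOf z).Coprime p ∧ ∃ n, u ^ p ^ n = 1 := by
  have hp : p.Prime := Fact.out
  set N := orderOf g
  have hN : N ≠ 0 := (orderOf_pos g).ne'
  set a := p ^ N.factorization p
  set m := N / a
  have hco : a.Coprime m := (hp.coprime_iff_not_dvd.2 (Nat.not_dvd_ordCompl hp hN)).pow_left _
  obtain ⟨α, hα1, hα2⟩ := Nat.chineseRemainder hco 0 1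
  obtain ⟨β, hβ1, hβ2⟩ := Nat.chineseRemainder hco 1 0
  have hg : g ^ (α + β) = g := by
    conv_rhs => rw [← pow_one g]
    rw [pow_eq_pow_iff_modEq]
    have h1 : α + β ≡ 1 [MOD a] := by simpa using hα1.add hβ1
    have h2 : α + β ≡ 1 [MOD m] := by simpa using hα2.add hβ2
    have := (Nat.modEq_and_modEq_iff_modEq_mul hco).1 ⟨h1, h2⟩
    rwa [Nat.ordProj_mul_ordCompl_eq_self] at this
  refine ⟨g ^ α, g ^ β, by rw [← pow_add, hg], Commute.pow_pow_self g α β, ?_,
    N.factorization p, ?_⟩
  · refine Nat.Coprime.coprime_dvd_left (orderOf_dvd_of_pow_eq_one (n := m) ?_)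
      (hp.coprime_iff_not_dvd.2 (Nat.not_dvd_ordCompl hp hN)).symm
    rw [← pow_mul, ← orderOf_dvd_iff_pow_eq_one]
    obtain ⟨c, hc⟩ := Nat.modEq_zero_iff_dvd.1 hα1
    rw [hc, mul_right_comm, Nat.ordProj_mul_ordCompl_eq_self]
    exact dvd_mul_right _ _
  · rw [← pow_mul, ← orderOf_dvd_iff_pow_eq_one]
    obtain ⟨c, hc⟩ := Nat.modEq_zero_iff_dvd.1 hβ2
    rw [hc, mul_right_comm, mul_comm m, Nat.ordProj_mul_ordCompl_eq_self]
    exact dvd_mul_right _ _

/-- The trace of an element is that of its regular part. -/
theorem trace_mul_pElement [CharP k p] {V : Type w} [AddCommGroup V] [Module k V]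
    [FiniteDimensional k V] (ρ : Representation k G V) {z u : G} (hc : Commute z u) {n : ℕ}
    (hu : u ^ p ^ n = 1) : LinearMap.trace k V (ρ (z * u)) = LinearMap.trace k V (ρ z) := by
  rcases subsingleton_or_nontrivial (Module.End k V) with hsub | hnt
  · rw [Subsingleton.elim (ρ (z * u)) (ρ z)]
  have : CharP (Module.End k V) p :=
    charP_of_injective_algebraMap (algebraMap k (Module.End k V)).injective p
  have hcc : Commute (ρ z) (ρ u - 1) := (hc.map ρ).sub_right (Commute.one_right _)
  have hnil : IsNilpotent (ρ z * (ρ u - 1)) := by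
    refine hcc.isNilpotent_mul_left ⟨p ^ n, ?_⟩
    rw [sub_pow_char_pow_of_commute (p := p) (h := Commute.one_right _), ← map_pow, hu, map_one, one_pow,
      sub_self]
  have h0 := (LinearMap.isNilpotent_trace_of_isNilpotent hnil).eq_zero
  rwa [mul_sub, mul_one, ← map_mul, map_sub, sub_eq_zero] at h0

open Classical in
theorem trace_funLeft {X : Type*} [Fintype X] (π : X → X) :
    LinearMap.trace k (X → k) (LinearMap.funLeft k k π) =
      (Nat.card {x // π x = x} : k) := by
  rw [LinearMap.trace_eq_matrix_trace k (Pi.basisFun k X), Matrix.trace, Nat.card_eq_fintype_card,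
    Fintype.card_subtype, ← Finset.sum_boole]
  refine Finset.sum_congr rfl fun x _ => ?_
  rw [Matrix.diag_apply, LinearMap.toMatrix_apply, Pi.basisFun_apply, Pi.basisFun_repr,
    LinearMap.funLeft_apply, Pi.single_apply]

/-- The permutation representation on functions. -/
def funRep (k : Type v) [Field k] (G : Type u) [Group G] (X : Type w) [MulAction G X] :
    Representation k G (X → k) where
  toFun g := LinearMap.funLeft k k (g⁻¹ • ·)
  map_one' := LinearMap.ext fun f => funext fun x => by simp
  map_mul' g h := LinearMap.ext fun f => funext fun x => by simp [mul_smul]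

variable [CharP k p] [IsAlgClosed k]

/-- If a combination of elements has trace zero on simple modules, it has trace zero composed with
any commuting operator. -/
theorem trace_comp_eq_zero {R : Type*} [Fintype R] (c : R → k) (x : R → G)
    (h : ∀ (S : Type (max u v)) [AddCommGroup S] [Module k S] [FiniteDimensional k S]
      (σ : Representation k G S), Simple σ → ∑ r, c r * LinearMap.trace k S (σ (x r)) = 0)
    (n : ℕ) :
    ∀ (V : Type (max u v)) [AddCommGroup V] [Module k V] [FiniteDimensional k V]
      (ρ : Representation k G V) (T : Module.End k V), (∀ g, Commute T (ρ g)) →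
      Module.finrank k V = n → ∑ r, c r * LinearMap.trace k V (T * ρ (x r)) = 0 := by
  induction n using Nat.strong_induction_on with
  | _ n ih =>
    intro V _ _ _ ρ T hT hn
    rcases subsingleton_or_nontrivial V with hsub | hnt
    · refine Finset.sum_eq_zero fun r _ => ?_
      rw [Subsingleton.elim (T * ρ (x r)) 0, map_zero, mul_zero]
    obtain ⟨l, hl⟩ := Module.End.exists_eigenvalue T
    have hEst : ∀ g, ∀ y ∈ T.eigenspace l, ρ g y ∈ T.eigenspace l := by
      intro g y hy
      rw [Module.End.mem_eigenspace_iff] at hy ⊢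
      rw [← Module.End.mul_apply, (hT g).eq, Module.End.mul_apply, hy, map_smul]
    obtain ⟨S, hS, hle, hsim⟩ := exists_simple_le ρ _ hEst hl
    have hTS : ∀ y ∈ S, T y = l • y := fun y hy => Module.End.mem_eigenspace_iff.1 (hle hy)
    have hTst : ∀ y ∈ S, T y ∈ S := fun y hy => by rw [hTS y hy]; exact S.smul_mem l hy
    have hlt : Module.finrank k (V ⧸ S) < n := by
      have h1 := S.finrank_quotient_add_finrank
      have : Nontrivial S := hsim.1
      have h2 : 0 < Module.finrank k S := Module.finrank_pos
      omega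
    have hquot := ih _ hlt (V ⧸ S) (quotRep ρ S hS) (S.mapQ S T hTst) (fun g => by
      refine LinearMap.ext fun y => ?_
      obtain ⟨y, rfl⟩ := S.mkQ_surjective y
      exact congrArg S.mkQ (congrArg (fun f : Module.End k V => f y) (hT g).eq)) rfl
    have hsub := h S (subRep ρ S hS) hsim
    have e : ∀ r, LinearMap.trace k V (T * ρ (x r)) = l * LinearMap.trace k S (subRep ρ S hS (x r)) +
        LinearMap.trace k (V ⧸ S) (S.mapQ S T hTst * quotRep ρ S hS (x r)) := by
      intro r
      rw [trace_eq_restrict_add_mapQ (T * ρ (x r)) S fun y hy => hTst _ (hS _ y hy)]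
      congr 1
      · refine Eq.trans ?_ (map_smul (LinearMap.trace k S) l (subRep ρ S hS (x r)))
        exact congrArg (LinearMap.trace k S)
          (LinearMap.ext fun y => Subtype.ext (hTS _ (hS _ y y.2)))
      · congr 1
        refine LinearMap.ext fun y => ?_
        obtain ⟨y, rfl⟩ := S.mkQ_surjective y
        rfl
    rw [Finset.sum_congr rfl fun r _ => by rw [e, mul_add, mul_left_comm], Finset.sum_add_distrib,
      ← Finset.mul_sum, hsub, mul_zero, zero_add, hquot]

/-- A complete family of trace functions bounds the number of regular classes. -/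
theorem card_regular_le {J : Type*} [Fintype J] (θ : J → G → k)
    (hθ : ∀ (S : Type (max u v)) [AddCommGroup S] [Module k S] [FiniteDimensional k S]
      (σ : Representation k G S), Simple σ → ∃ j, ∀ g, LinearMap.trace k S (σ g) = θ j g) :
    Nat.card (RegClass p G) ≤ Nat.card J := by
  classical
  have hp : p.Prime := Fact.out
  haveI : Fintype G := Fintype.ofFinite G
  choose x hxmk hxreg using fun C : RegClass p G => C.2
  let Φ : (RegClass p G → k) →ₗ[k] (J → k) :=
    LinearMap.pi fun j => ∑ C, θ j (x C) • (LinearMap.proj C : (RegClass p G → k) →ₗ[k] k)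
  have hΦ : Function.Injective Φ := by
    rw [← LinearMap.ker_eq_bot, LinearMap.ker_eq_bot']
    intro c hc
    have hsimple : ∀ (S : Type (max u v)) [AddCommGroup S] [Module k S] [FiniteDimensional k S]
        (σ : Representation k G S), Simple σ →
        ∑ C, c C * LinearMap.trace k S (σ (x C)) = 0 := by
      intro S _ _ _ σ hσ
      obtain ⟨j, hj⟩ := hθ S σ hσ
      have := congrFun hc j
      simp [Φ, LinearMap.sum_apply] at this
      simpa [hj, mul_comm] using this
    funext C₀
    -- the separating module
    set g₀ := x C₀ with hg₀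
    set Z := Subgroup.centralizer ({g₀} : Set G)
    obtain ⟨P₀⟩ : Nonempty (Sylow p Z) := inferInstance
    set P := (P₀ : Subgroup Z).map Z.subtype with hP
    have hPc : ∀ q ∈ P, q * g₀ = g₀ * q := fun q hq =>
      Subgroup.mem_centralizer_singleton_iff.1 (Subgroup.map_subtype_le _ hq)
    let τ : G ⧸ P → G ⧸ P := fun X => Quotient.liftOn' X (fun a => ((a * g₀ : G) : G ⧸ P))
      fun a b hab => QuotientGroup.eq.2 (by
        have h1 : a⁻¹ * b ∈ P := QuotientGroup.leftRel_apply.1 hab
        rwa [show (a * g₀)⁻¹ * (b * g₀) = g₀⁻¹ * ((a⁻¹ * b) * g₀) by group, hPc _ h1,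
          inv_mul_cancel_left])
    have hτ : ∀ a : G, τ (a : G ⧸ P) = ((a * g₀ : G) : G ⧸ P) := fun a => rfl
    have hτs : ∀ (g : G) (X : G ⧸ P), τ (g • X) = g • τ X := by
      intro g X
      induction X using QuotientGroup.induction_on with | _ a => ?_
      show τ (((g * a : G)) : G ⧸ P) = ((g * (a * g₀) : G) : G ⧸ P)
      rw [hτ, mul_assoc]
    have hsum := trace_comp_eq_zero c x hsimple _ (G ⧸ P → k) (funRep k G (G ⧸ P))
      (LinearMap.funLeft k k τ) (fun g => LinearMap.ext fun f => funext fun X => by
        show f (g⁻¹ • τ X) = f (τ (g⁻¹ • X))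
        rw [hτs]) rfl
    have htr : ∀ g : G, LinearMap.trace k (G ⧸ P → k) (LinearMap.funLeft k k τ *
        funRep k G (G ⧸ P) g) = (Nat.card {X : G ⧸ P // g⁻¹ • τ X = X} : k) := by
      intro g
      rw [← trace_funLeft]
      rfl
    simp only [htr] at hsum
    -- only the class of `g₀` contributes
    have hfix : ∀ (C : RegClass p G) (a : G), (x C)⁻¹ • τ (a : G ⧸ P) = (a : G ⧸ P) ↔
        a⁻¹ * x C * a = g₀ := by
      intro C a
      rw [hτ]
      show (((x C)⁻¹ * (a * g₀) : G) : G ⧸ P) = _ ↔ _
      rw [QuotientGroup.eq]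
      constructor
      · intro h1
        set u := ((x C)⁻¹ * (a * g₀))⁻¹ * a with hu
        have hug : a⁻¹ * x C * a = g₀ * u := by
          rw [hu]
          group
        have hcomm : Commute g₀ u := ((hPc u h1).symm :)
        obtain ⟨j, hj⟩ := (P₀.isPGroup'.map Z.subtype) ⟨u, h1⟩
        have hj' : u ^ p ^ j = 1 := congrArg Subtype.val hj
        have hdvd : orderOf u ∣ p ^ j := orderOf_dvd_of_pow_eq_one hj'
        have hreg : (orderOf (g₀ * u)).Coprime p := by
          rw [← hug, show orderOf (a⁻¹ * x C * a) = orderOf (x C) by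
            simpa using orderOf_injective (MulAut.conj a⁻¹).toMonoidHom
              (MulAut.conj a⁻¹).injective (x C)]
          exact hxreg C
        rw [hcomm.orderOf_mul_eq_mul_orderOf_of_coprime
          (Nat.Coprime.coprime_dvd_right hdvd ((hxreg C₀).pow_right j))] at hreg
        have h2 : orderOf u = 1 := Nat.Coprime.eq_one_of_dvd
          ((Nat.Coprime.coprime_mul_left hreg).pow_right j) hdvd
        rw [hug, orderOf_eq_one_iff.1 h2, mul_one]
      · intro h1
        rw [show ((x C)⁻¹ * (a * g₀))⁻¹ * a = g₀⁻¹ * (a⁻¹ * x C * a) by group, h1, inv_mul_cancel]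
        exact one_mem _
    rw [Finset.sum_eq_single C₀] at hsum
    · refine (mul_eq_zero.1 hsum).resolve_right ?_
      have hcard : Nat.card {X : G ⧸ P // (g₀)⁻¹ • τ X = X} = P.relIndex Z := by
        rw [Subgroup.relIndex, Subgroup.index]
        let Ψ₀ : Z ⧸ P.subgroupOf Z → G ⧸ P := fun X => Quotient.liftOn' X
          (fun a : Z => ((a : G) : G ⧸ P)) fun a b hab => QuotientGroup.eq.2 (by
            simpa [Subgroup.mem_subgroupOf] using QuotientGroup.leftRel_apply.1 hab)
        have hΨ₀ : ∀ X, (g₀)⁻¹ • τ (Ψ₀ X) = Ψ₀ X := by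
          intro X
          induction X using QuotientGroup.induction_on with | _ a => ?_
          refine (hfix C₀ a).2 ?_
          have := Subgroup.mem_centralizer_singleton_iff.1 a.2
          show (a : G)⁻¹ * g₀ * a = g₀
          rw [mul_assoc, ← this, inv_mul_cancel_left]
        refine (Nat.card_eq_of_bijective (fun X => (⟨Ψ₀ X, hΨ₀ X⟩ :
          {X : G ⧸ P // (g₀)⁻¹ • τ X = X})) ⟨?_, ?_⟩).symm
        · intro X Y
          induction X using QuotientGroup.induction_on with | _ a => ?_
          induction Y using QuotientGroup.induction_on with | _ b => ?_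
          intro e
          refine QuotientGroup.eq.2 (Subgroup.mem_subgroupOf.2 ?_)
          simpa using QuotientGroup.eq.1 (congrArg Subtype.val e :)
        · rintro ⟨X, hX⟩
          induction X using QuotientGroup.induction_on with | _ a => ?_
          have := (hfix C₀ a).1 hX
          refine ⟨((⟨a, Subgroup.mem_centralizer_singleton_iff.2 ?_⟩ : Z) : Z ⧸ _), rfl⟩
          conv_lhs => rw [← this]
          group
          rfl
      rw [hcard]
      intro h0
      rw [CharP.cast_eq_zero_iff k p] at h0
      have h3 : P.subgroupOf Z = (P₀ : Subgroup Z) := by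
        rw [hP, Subgroup.subgroupOf, Subgroup.comap_map_eq_self_of_injective Z.subtype_injective]
      rw [Subgroup.relIndex, h3] at h0
      exact P₀.not_dvd_index h0
    · intro C _ hne
      rw [show Nat.card {X : G ⧸ P // (x C)⁻¹ • τ X = X} = 0 from Nat.card_eq_zero.2 (Or.inl
        ⟨fun X => ?_⟩), Nat.cast_zero, mul_zero]
      obtain ⟨a, ha⟩ := QuotientGroup.mk_surjective X.1
      have h1 := (hfix C a).1 (by rw [ha]; exact X.2)
      refine hne (Subtype.ext ?_)
      rw [← hxmk C, ← hxmk C₀, ConjClasses.mk_eq_mk_iff_isConj, isConj_iff]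
      exact ⟨a⁻¹, by rw [inv_inv]; exact h1⟩
    · simp
  have := LinearMap.finrank_le_finrank_of_injective hΦ
  rwa [Module.finrank_fintype_fun_eq_card, Module.finrank_fintype_fun_eq_card,
    ← Nat.card_eq_fintype_card, ← Nat.card_eq_fintype_card] at this

/-- Pairwise non-isomorphic simple modules are at most as many as the regular classes. -/
theorem le_card_regular {J : Type*} [Fintype J] (S : J → Type w) [∀ j, AddCommGroup (S j)]
    [∀ j, Module k (S j)] [∀ j, FiniteDimensional k (S j)] (σ : ∀ j, Representation k G (S j))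
    (hsim : ∀ j, Simple (σ j))
    (hne : ∀ i j, i ≠ j → ∀ f : S i →ₗ[k] S j, (∀ g x, f (σ i g x) = σ j g (f x)) → f = 0) :
    Nat.card J ≤ Nat.card (RegClass p G) := by
  classical
  haveI : Fintype G := Fintype.ofFinite G
  choose x hxmk hxreg using fun C : RegClass p G => C.2
  have hsimple : ∀ j, IsSimpleModule (MonoidAlgebra k G) (σ j).asModule := fun j => by
    haveI : Nontrivial (σ j).asModule := ((σ j).asModuleEquiv.toEquiv.nontrivial_congr).2 (hsim j).1
    have : IsSimpleOrder (Submodule (MonoidAlgebra k G) (σ j).asModule) := by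
      refine ⟨fun N => ?_⟩
      have hst : ∀ g : G, ∀ y ∈ (N.restrictScalars k).map (σ j).asModuleEquiv.toLinearMap,
          σ j g y ∈ (N.restrictScalars k).map (σ j).asModuleEquiv.toLinearMap := by
        rintro g _ ⟨y, hy, rfl⟩
        refine ⟨MonoidAlgebra.single g (1 : k) • y, N.smul_mem _ hy, ?_⟩
        simp
        rfl
      rcases (hsim j).2 _ hst with e | e
      · refine Or.inl (eq_bot_iff.2 fun y hy => ?_)
        have : (σ j).asModuleEquiv y ∈ (⊥ : Submodule k (S j)) := e ▸ ⟨y, hy, rfl⟩
        simpa using this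
      · refine Or.inr (eq_top_iff.2 fun y _ => ?_)
        obtain ⟨z, hz, hzy⟩ := (e ▸ Submodule.mem_top :
          (σ j).asModuleEquiv y ∈ (N.restrictScalars k).map (σ j).asModuleEquiv.toLinearMap)
        exact (σ j).asModuleEquiv.injective hzy ▸ hz
    exact { }
  haveI := hsimple
  haveI : ∀ j, FiniteDimensional k (σ j).asModule := fun j =>
    (σ j).asModuleEquiv.symm.finiteDimensional
  have hzero : ∀ i j, i ≠ j →
      ∀ f : (σ i).asModule →ₗ[MonoidAlgebra k G] (σ j).asModule, f = 0 := by
    intro i j hij f
    set f' : S i →ₗ[k] S j := (σ j).asModuleEquiv.toLinearMap ∘ₗ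
      (f.restrictScalars k) ∘ₗ (σ i).asModuleEquiv.symm.toLinearMap
    have h0 : f' = 0 := by
      refine hne i j hij f' fun g y => ?_
      show (σ j).asModuleEquiv (f ((σ i).asModuleEquiv.symm (σ i g y))) =
        σ j g ((σ j).asModuleEquiv (f ((σ i).asModuleEquiv.symm y)))
      rw [Representation.asModuleEquiv_symm_map_rho, map_smul, Representation.asModuleEquiv_map_smul,
        MonoidAlgebra.of_apply, Representation.asAlgebraHom_single_one]
    refine LinearMap.ext fun y => (σ j).asModuleEquiv.injective ?_
    have := congrArg (fun F : S i →ₗ[k] S j => F ((σ i).asModuleEquiv y)) h0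
    simpa [f'] using this
  have key : ∀ (j : J) (a : MonoidAlgebra k G),
      LinearMap.trace k (σ j).asModule (Algebra.lsmul k k (σ j).asModule a) =
        LinearMap.trace k (S j) ((σ j).asAlgebraHom a) := by
    intro j a
    rw [← LinearMap.trace_conj' _ (σ j).asModuleEquiv]
    congr 1
  let Ψ : (J → k) →ₗ[k] (RegClass p G → k) :=
    LinearMap.pi fun C => ∑ j, LinearMap.trace k (S j) (σ j (x C)) •
      (LinearMap.proj j : (J → k) →ₗ[k] k)
  have hΨ : Function.Injective Ψ := by
    rw [← LinearMap.ker_eq_bot, LinearMap.ker_eq_bot']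
    intro a ha
    funext j₀
    obtain ⟨r, hr⟩ := BlocksCyclic.exists_trace_dual (k := k) (A := MonoidAlgebra k G)
      (fun j => (σ j).asModule) hzero j₀
    have hall : ∀ g : G, ∑ j, a j * LinearMap.trace k (S j) (σ j g) = 0 := by
      intro g
      obtain ⟨z, u, rfl, hc, hz, n, hu⟩ := exists_regular_part (p := p) g
      let C : RegClass p G := ⟨ConjClasses.mk z, z, rfl, hz⟩
      obtain ⟨c, hc'⟩ := isConj_iff.1 (ConjClasses.mk_eq_mk_iff_isConj.1 (hxmk C))
      have e : ∀ j, LinearMap.trace k (S j) (σ j (z * u)) =
          LinearMap.trace k (S j) (σ j (x C)) := fun j => by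
        rw [trace_mul_pElement (σ j) hc hu, ← hc', map_mul, LinearMap.trace_mul_comm, ← map_mul]
        group
      have := congrFun ha C
      simp [Ψ, LinearMap.sum_apply] at this
      refine Eq.trans (Finset.sum_congr rfl fun j _ => by rw [e j]) ?_
      simpa [mul_comm] using this
    have hr' : ∑ j, a j * LinearMap.trace k (σ j).asModule
        (Algebra.lsmul k k (σ j).asModule r) = 0 := by
      simp only [key]
      clear hr
      induction r using MonoidAlgebra.induction_linear with
      | zero => simp
      | add y z hy hz => simp [mul_add, Finset.sum_add_distrib, hy, hz]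
      | single g c =>
        simp only [Representation.asAlgebraHom_single, map_smul, smul_eq_mul, mul_left_comm _ c]
        rw [← Finset.mul_sum, hall g, mul_zero]
    simpa [hr] using hr'
  have := LinearMap.finrank_le_finrank_of_injective hΨ
  rwa [Module.finrank_fintype_fun_eq_card, Module.finrank_fintype_fun_eq_card,
    ← Nat.card_eq_fintype_card, ← Nat.card_eq_fintype_card] at this

end Group

end CfsgLib.ChevBrauer
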