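import Mathlib
import Cfsg.Agent.ChevBrauer.Regular
import Cfsg.Agent.ChevDefect.Weight
import Cfsg.Agent.ChevTorus.Generators
import Cfsg.Agent.SLDefect.Weight

/-!
# Weights of the simple modules of a Chevalley group

A type gives for each fundamental root a character of the torus of the root and a scalar of the
operator of the reflection.  Every simple module in the characteristic of the field has a weight
vector of exactly one type and is determined by it.
-/

set_option autoImplicit false
set_option linter.unusedSectionVars false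
set_option linter.style.haveILetI false

namespace CfsgLib.ChevBrauer

open Cfsg.Lie CfsgLib CfsgLib.Chevalley CfsgLib.ChevFieldAut CfsgLib.ChevDefect
open scoped MatrixGroups

variable {D : ChevalleyDatum} {C : Weyl.Cert D.rank} {M : CoxeterMatrix (Fin D.rank)}
  {R : Weyl.RootTable} {F : Type*} [Field F] (hW : GoodWeyl D)
  {k : Type*} [Field k]

local notation "ℓ" => CoxeterSystem.length (CoxeterMatrix.toCoxeterSystem M)

/-- A type of weight vectors: `none` stands for the trivial character with scalar `0`. -/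
abbrev WType (D : ChevalleyDatum) (F : Type*) [Field F] (k : Type*) [Field k] :=
  Fin D.rank → Option (Fˣ →* kˣ)

/-- The character at a fundamental root. -/
def chr (o : WType D F k) (i : Fin D.rank) : Fˣ →* kˣ := (o i).getD 1

/-- The character of the torus parameters. -/
def wgt (o : WType D F k) : (Fin D.rank → Fˣ) →* kˣ where
  toFun c := ∏ i, chr o i (c i)
  map_one' := by simp
  map_mul' a b := by simp [Finset.prod_mul_distrib]

theorem wgt_mulSingle (o : WType D F k) (i : Fin D.rank) (d : Fˣ) :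
    wgt o (Pi.mulSingle i d) = chr o i d := by
  show ∏ j, chr o j ((Pi.mulSingle i d : Fin D.rank → Fˣ) j) = _
  rw [Finset.prod_eq_single i]
  · rw [Pi.mulSingle_eq_same]
  · intro j _ hj
    rw [Pi.mulSingle_eq_of_ne hj, map_one]
  · simp

/-- A torus element inside the group. -/
def torE : (Fin D.rank → Fˣ) →* ↥(D.group F) :=
  (torHom D F).codRestrict (D.group F) fun c =>
    diag_le_group hW (by rw [diagonalSubgroup_eq_range hW]; exact ⟨c, rfl⟩)

@[simp] theorem coe_torE (c : Fin D.rank → Fˣ) :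
    ((torE hW c : ↥(D.group F)) : GL D.Idx F) = torC D c := rfl

theorem torC_mulSingle (i : Fin D.rank) (d : Fˣ) :
    (torC D (Pi.mulSingle i d) : GL D.Idx F) = hT F (pRoot hW i) d := by
  rw [hT_eq_torC]
  congr 1
  funext k
  have e := ChevTorus.co_pRoot hW i k
  rw [ChevTorus.co] at e
  rw [e]
  by_cases hik : i = k
  · subst hik
    simp
  · simp [hik]

theorem torE_mulSingle (i : Fin D.rank) (d : Fˣ) :
    torE hW (Pi.mulSingle i d) = hE (F := F) hW (pRoot hW i) d :=
  Subtype.ext (torC_mulSingle hW i d)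

include hW in
theorem exists_torE {g : ↥(D.group F)} (hg : (g : GL D.Idx F) ∈ D.diagonalSubgroup F) :
    ∃ c, torE hW c = g := by
  rw [diagonalSubgroup_eq_range hW] at hg
  obtain ⟨c, hc⟩ := hg
  exact ⟨c, Subtype.ext hc⟩

variable [Fintype F]

/-- The square of an operator as a multiple of it. -/
noncomputable def sq (μ : Fˣ →* kˣ) : k := (μ (-1) : k) * ∑ᶠ u : Fˣ, (μ u : k)

/-- The scalar of the operator. -/
noncomputable def scal : Option (Fˣ →* kˣ) → k
  | none => 0
  | some μ => sq μ

theorem card_units_eq_neg_one (p : ℕ) [Fact p.Prime] [CharP F p] [CharP k p] [Fintype Fˣ] :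
    (Fintype.card Fˣ : k) = -1 := by
  classical
  obtain ⟨f, -, hf⟩ := FiniteField.card F p
  have h1 : Fintype.card Fˣ + 1 = Fintype.card F := by
    rw [← Nat.card_eq_fintype_card, ← Nat.card_eq_fintype_card, Nat.card_units]
    have := Nat.card_pos (α := F)
    omega
  have h2 := congrArg (fun n : ℕ => (n : k)) h1
  simp only [Nat.cast_add, Nat.cast_one, hf, Nat.cast_pow, CharP.cast_eq_zero,
    zero_pow f.pos.ne'] at h2
  exact eq_neg_of_add_eq_zero_left h2

theorem sq_one (p : ℕ) [Fact p.Prime] [CharP F p] [CharP k p] :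
    sq (1 : Fˣ →* kˣ) = -1 := by
  classical
  rw [sq, finsum_eq_sum_of_fintype]
  simp [card_units_eq_neg_one (k := k) (F := F) p]

theorem sq_ne_one {μ : Fˣ →* kˣ} (hμ : μ ≠ 1) : sq μ = 0 := by
  classical
  rw [sq, finsum_eq_sum_of_fintype]
  refine mul_eq_zero_of_right _ ?_
  exact sum_hom_units_eq_zero ((Units.coeHom k).comp μ) fun h => hμ
    (MonoidHom.ext fun u => Units.ext (DFunLike.congr_fun h u))

theorem sq_inv (μ : Fˣ →* kˣ) : sq μ⁻¹ = sq μ := by
  by_cases hμ : μ = 1
  · congr 1
    exact MonoidHom.ext fun u => by simp [hμ]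
  · rw [sq_ne_one hμ, sq_ne_one fun h => hμ (MonoidHom.ext fun u => by
      simpa using DFunLike.congr_fun h u)]

variable {V : Type*} [AddCommGroup V] [Module k V] (ρ : Representation k ↥(D.group F) V)

/-- The square of the operator of a fundamental reflection on a weight vector. -/
theorem sOp_sOp_eq (p : ℕ) [Fact p.Prime] [CharP F p] [CharP k p] (i : Fin D.rank)
    {ν : Fˣ →* kˣ} {v : V} (hv : v ∈ fixU ρ)
    (hν : ∀ d, ρ (hE hW (pRoot hW i) d) v = (ν d : k) • v) :
    sOp hW ρ i (sOp hW ρ i v) = sq ν • sOp hW ρ i v := by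
  classical
  have key : ∀ r : F, ∑ t : F, ρ (xE hW (pRoot hW i) t * nE hW i *
      (xE hW (pRoot hW i) r * nE hW i)) v =
        (if hr : r = 0 then 0 else (ν (-1) : k) * (ν (Units.mk0 r hr) : k)) • sOp hW ρ i v := by
    intro r
    by_cases hr : r = 0
    · subst hr
      rw [dif_pos rfl, zero_smul]
      have e : ∀ t : F, ρ (xE hW (pRoot hW i) t * nE hW i * (xE hW (pRoot hW i) 0 * nE hW i)) v =
          (ν (-1) : k) • v := by
        intro t
        have h2 : xE hW (pRoot hW i) t * nE hW i * (xE hW (pRoot hW i) 0 * nE hW i) =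
            xE hW (pRoot hW i) t * hE hW (pRoot hW i) (-1) := Subtype.ext (by
          show X hW.good (pRoot hW i) t * nR hW i * (X hW.good (pRoot hW i) (0 : F) * nR hW i) =
            X hW.good (pRoot hW i) t * hT F (pRoot hW i) (-1)
          rw [X_zero, one_mul, mul_assoc, nR_sq hW])
        rw [h2, rho_mul_apply, hν, map_smul, x_fixed hW ρ hv]
      have hq : (Fintype.card F : k) = 0 := by
        obtain ⟨f, -, hf⟩ := FiniteField.card F p
        rw [hf, Nat.cast_pow, CharP.cast_eq_zero, zero_pow f.pos.ne']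
      rw [Finset.sum_congr rfl fun t _ => e t, Finset.sum_const, Finset.card_univ,
        ← Nat.cast_smul_eq_nsmul k, hq, zero_smul]
    · rw [dif_neg hr]
      set u : Fˣ := Units.mk0 r hr with hu
      set y : F := -((u⁻¹ : Fˣ) : F) with hy
      have h1 := nR_conj_X_pRoot hW i u
      rw [show ((u : Fˣ) : F) = r from rfl] at h1
      have h2 : ∀ t : F, xE hW (pRoot hW i) t * nE hW i * (xE hW (pRoot hW i) r * nE hW i) =
          xE hW (pRoot hW i) (t + y) * nE hW i * hE hW (pRoot hW i) u * xE hW (pRoot hW i) y *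
            hE hW (pRoot hW i) (-1) := by
        intro t
        refine Subtype.ext ?_
        show X hW.good (pRoot hW i) t * nR hW i * (X hW.good (pRoot hW i) r * nR hW i) =
          X hW.good (pRoot hW i) (t + y) * nR hW i * hT F (pRoot hW i) u *
            X hW.good (pRoot hW i) y * hT F (pRoot hW i) (-1)
        calc X hW.good (pRoot hW i) t * nR hW i * (X hW.good (pRoot hW i) r * nR hW i)
            = X hW.good (pRoot hW i) t * (nR hW i * X hW.good (pRoot hW i) r * (nR hW i)⁻¹) *
                (nR hW i * nR hW i) := by group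
          _ = _ := by
            conv_rhs => rw [show u = u⁻¹⁻¹ from (inv_inv u).symm, ← nR_inv_hT hW i u⁻¹]
            rw [h1, nR_sq hW, ← X_mul, ← hy]
            group
      rw [Finset.sum_congr rfl fun t _ => by
        rw [h2 t, rho_mul_apply, hν, map_smul, rho_mul_apply, x_fixed hW ρ hv, rho_mul_apply, hν,
          map_smul, smul_smul]]
      rw [← Finset.smul_sum, sOp_apply]
      congr 1
      exact Fintype.sum_equiv (Equiv.addRight y) _ _ fun t => rfl
  calc sOp hW ρ i (sOp hW ρ i v)
      = ∑ r : F, ∑ t : F, ρ (xE hW (pRoot hW i) t * nE hW i *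
          (xE hW (pRoot hW i) r * nE hW i)) v := by
        rw [sOp_apply hW ρ i (sOp hW ρ i v), Finset.sum_comm]
        refine Finset.sum_congr rfl fun t _ => ?_
        rw [sOp_apply, map_sum]
        exact Finset.sum_congr rfl fun r _ => (rho_mul_apply ρ _ _ v).symm
    _ = _ := by
        rw [Finset.sum_congr rfl fun r _ => key r, ← Finset.sum_smul]
        congr 1
        rw [sq, finsum_eq_sum_of_fintype, Finset.mul_sum,
          ← Finset.sum_erase (s := Finset.univ) (a := (0 : F)) (by rw [dif_pos rfl])]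
        refine Finset.sum_bij' (fun r hr => Units.mk0 r (Finset.mem_erase.1 hr).1)
          (fun u _ => (u : F)) ?_ ?_ ?_ ?_ ?_
        · intro r hr; exact Finset.mem_univ _
        · intro u _; exact Finset.mem_erase.2 ⟨u.ne_zero, Finset.mem_univ _⟩
        · intro r hr; rfl
        · intro u _; exact Units.ext rfl
        · intro r hr; rw [dif_neg (Finset.mem_erase.1 hr).1]

/-- A weight vector of a given type. -/
structure HasType (o : WType D F k) (v : V) : Prop where
  ne : v ≠ 0
  fixed : v ∈ fixU ρ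
  tor : ∀ c, ρ (torE hW c) v = (wgt o c : k) • v
  op : ∀ i, sOp hW ρ i v = scal (o i) • v

variable {hW ρ}

theorem HasType.hE_smul {o : WType D F k} {v : V} (hv : HasType hW ρ o v) (i : Fin D.rank)
    (d : Fˣ) : ρ (hE hW (pRoot hW i) d) v = (chr o i d : k) • v := by
  rw [← torE_mulSingle, hv.tor, wgt_mulSingle]

theorem HasType.lowSpan_stable [Fintype ↥(D.group F)] {o : WType D F k} {v : V}
    (hv : HasType hW ρ o v) (g : ↥(D.group F)) :
    ∀ w ∈ lowSpan ρ v, ρ g w ∈ lowSpan ρ v :=
  ChevDefect.lowSpan_stable hW ρ hv.ne hv.fixed (fun i d => ⟨_, hv.hE_smul i d⟩)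
    (fun i => ⟨_, hv.op i⟩) g

theorem HasType.map {o : WType D F k} {v : V} (hv : HasType hW ρ o v) {V' : Type*}
    [AddCommGroup V'] [Module k V'] {ρ' : Representation k ↥(D.group F) V'} (f : V →ₗ[k] V')
    (hf : ∀ g x, f (ρ g x) = ρ' g (f x)) (hne : f v ≠ 0) : HasType hW ρ' o (f v) where
  ne := hne
  fixed u hu := by rw [← hf, hv.fixed u hu]
  tor c := by rw [← hf, hv.tor, map_smul]
  op i := by
    rw [← map_smul, ← hv.op i, sOp_apply, sOp_apply, map_sum]
    exact Finset.sum_congr rfl fun t _ => (hf _ v).symm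

theorem HasType.unique (p : ℕ) [Fact p.Prime] [CharP F p] [CharP k p] {o o' : WType D F k}
    {v : V} (hv : HasType hW ρ o v) (hv' : HasType hW ρ o' v) : o = o' := by
  funext i
  have hc : chr o i = chr o' i := MonoidHom.ext fun d => Units.ext
    (smul_left_injective k hv.ne ((hv.hE_smul i d).symm.trans (hv'.hE_smul i d)))
  have hs : scal (o i) = scal (o' i) :=
    smul_left_injective k hv.ne ((hv.op i).symm.trans (hv'.op i))
  have h1 : sq (1 : Fˣ →* kˣ) ≠ 0 := by rw [sq_one p]; exact neg_ne_zero.2 one_ne_zero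
  revert hc hs
  simp only [chr]
  generalize o i = a
  generalize o' i = b
  intro hc hs
  cases a <;> cases b <;> simp only [Option.getD_none, Option.getD_some, scal] at hc hs
  · rfl
  · subst hc; exact absurd hs.symm h1
  · subst hc; exact absurd hs h1
  · rw [hc]

variable {p : ℕ} [Fact p.Prime] [CharP F p] [CharP k p] (h : Weyl.RootGood C M R)

variable (hW ρ) in
include p h in
/-- Every nonzero module has a weight vector of some type. -/
theorem exists_hasType [IsAlgClosed k] [FiniteDimensional k V] {w : V} (hw : w ≠ 0) :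
    ∃ (o : WType D F k) (v : V), HasType hW ρ o v := by
  classical
  haveI : Fintype ↥(D.group F) := Fintype.ofFinite _
  obtain ⟨v₀, h0, h1, h2⟩ := exists_eigen_fixed (p := p) hW ρ hw
  obtain ⟨v, hv0, hv, he, hS⟩ := exists_weight_vector (p := p) hW h ρ h0 h1 h2
  have hinj := smul_left_injective k hv0
  choose a ha using fun c : Fin D.rank → Fˣ => he (torE hW c)
    (show torC D c ∈ _ by rw [diagonalSubgroup_eq_range hW]; exact ⟨c, rfl⟩)
  have a1 : a 1 = 1 := hinj (by
    show a 1 • v = (1 : k) • v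
    rw [one_smul, ← ha, map_one, map_one, Module.End.one_apply])
  have amul : ∀ c c', a (c * c') = a c * a c' := fun c c' => hinj (by
    show a (c * c') • v = (a c * a c') • v
    rw [← ha, map_mul, map_mul, Module.End.mul_apply, ha, map_smul, ha, smul_smul, mul_comm])
  let A : (Fin D.rank → Fˣ) →* kˣ :=
    MonoidHom.toHomUnits { toFun := a, map_one' := a1, map_mul' := amul }
  have hA : ∀ c, (A c : k) = a c := fun c => rfl
  let ν : Fin D.rank → Fˣ →* kˣ := fun i => A.comp (MonoidHom.mulSingle (fun _ => Fˣ) i)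
  choose s hs using hS
  let o : WType D F k := fun i => if ν i = 1 ∧ s i = 0 then none else some (ν i)
  have hchr : ∀ i, chr o i = ν i := by
    intro i
    simp only [chr, o]
    split_ifs with h'
    · exact h'.1.symm
    · rfl
  have hwgt : wgt o = A := by
    refine MonoidHom.ext fun c => ?_
    conv_rhs => rw [← Finset.univ_prod_mulSingle c, map_prod]
    show ∏ i, chr o i (c i) = _
    exact Finset.prod_congr rfl fun i _ => by rw [hchr]; rfl
  refine ⟨o, v, hv0, hv, fun c => by rw [hwgt, hA, ha], fun i => ?_⟩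
  have hsq : s i * s i = sq (ν i) * s i := hinj (by
    show (s i * s i) • v = (sq (ν i) * s i) • v
    have := sOp_sOp_eq hW ρ p i (ν := ν i) hv fun d => by
      rw [← torE_mulSingle, ha]; rfl
    rw [hs, map_smul, hs, smul_smul, smul_smul] at this
    exact this)
  rw [hs]
  congr 1
  simp only [o]
  split_ifs with h'
  · exact h'.2
  · show s i = sq (ν i)
    rcases eq_or_ne (s i) 0 with h0' | h0'
    · rw [h0', sq_ne_one fun e => h' ⟨e, h0'⟩]
    · exact mul_right_cancel₀ h0' hsq

/-! ### Simple modules -/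

variable (hW) in
include p hW in
theorem isPGroup_uNeg : IsPGroup p (uNeg D F) := by
  haveI : Fintype ↥(D.group F) := Fintype.ofFinite _
  obtain ⟨f, -, hf⟩ := FiniteField.card F p
  refine IsPGroup.of_card (n := f * half D) ?_
  rw [natCard_uNeg hW, Nat.card_eq_fintype_card, hf, ← pow_mul]

theorem lowSpan_eq_top {o : WType D F k} {v : V} (hv : HasType hW ρ o v) (hs : Simple ρ) :
    lowSpan ρ v = ⊤ := by
  haveI : Fintype ↥(D.group F) := Fintype.ofFinite _
  exact (hs.2 _ hv.lowSpan_stable).resolve_left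
    fun hb => hv.ne ((Submodule.mem_bot k).1 (hb ▸ self_mem_lowSpan ρ v))

theorem simple_dual [FiniteDimensional k V] (hs : Simple ρ) : Simple ρ.dual := by
  obtain ⟨hnt, hsub⟩ := hs
  refine ⟨inferInstance, fun W hW' => ?_⟩
  have hst : ∀ g, ∀ x ∈ W.dualCoannihilator, ρ g x ∈ W.dualCoannihilator := by
    intro g x hx
    rw [Submodule.mem_dualCoannihilator] at hx ⊢
    intro φ hφ
    have h2 := hx _ (hW' g⁻¹ φ hφ)
    rwa [Representation.dual_apply, Module.Dual.transpose_apply, LinearMap.comp_apply,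
      inv_inv] at h2
  have hdd : W.dualCoannihilator.dualAnnihilator = W :=
    Subspace.dualCoannihilator_dualAnnihilator_eq
  rcases hsub _ hst with e | e
  · right
    rw [← hdd, e, Submodule.dualAnnihilator_bot]
  · left
    rw [← hdd, e, Submodule.dualAnnihilator_top]

variable (hW) in
include p hW in
/-- A functional fixed by `U⁻`, which is nonzero at any vector whose translates span. -/
theorem exists_low_functional [FiniteDimensional k V] {v : V} (hv : v ≠ 0)
    (htop : lowSpan ρ v = ⊤) :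
    ∃ φ : Module.Dual k V, φ v ≠ 0 ∧ ∀ u ∈ uNeg D F, ∀ x, φ (ρ u x) = φ x := by
  haveI : Nontrivial V := ⟨⟨v, 0, hv⟩⟩
  obtain ⟨φ₀, hφ₀⟩ := exists_ne (0 : Module.Dual k V)
  haveI : Fintype ↥(D.group F) := Fintype.ofFinite _
  obtain ⟨φ, hφ0, hφ⟩ := SLDefect.exists_fixed_vector ρ.dual (uNeg D F)
    (isPGroup_uNeg (p := p) hW) hφ₀
  have hinv : ∀ u ∈ uNeg D F, ∀ x, φ (ρ u x) = φ x := by
    intro u hu x
    conv_rhs => rw [← hφ u⁻¹ (inv_mem hu)]
    rw [Representation.dual_apply, Module.Dual.transpose_apply, LinearMap.comp_apply, inv_inv]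
  refine ⟨φ, fun h0 => hφ0 (LinearMap.ext fun x => ?_), hinv⟩
  have : lowSpan ρ v ≤ LinearMap.ker φ := by
    refine Submodule.span_le.2 ?_
    rintro _ ⟨u, rfl⟩
    simp only [SetLike.mem_coe, LinearMap.mem_ker, hinv _ u.2, h0]
  exact LinearMap.mem_ker.1 (this (htop ▸ Submodule.mem_top))

variable (hW) in
include p hW h in
/-- The vectors of a simple module fixed by `U` form a line. -/
theorem fixU_eq_smul [IsAlgClosed k] [FiniteDimensional k V] (hs : Simple ρ) :
    ∃ φ : Module.Dual k V, ∀ w ∈ fixU ρ, φ w = 0 → w = 0 := by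
  haveI : Fintype ↥(D.group F) := Fintype.ofFinite _
  have hd := simple_dual hs
  haveI := hd.1
  obtain ⟨φ₀, hφ₀⟩ := exists_ne (0 : Module.Dual k V)
  obtain ⟨o, ψ, hψ⟩ := exists_hasType hW ρ.dual (p := p) h hφ₀
  have htop := lowSpan_eq_top hψ hd
  obtain ⟨n, hn, hmap⟩ := ChevTorus.exists_conj_pos_eq_neg (F := F) hW
  set N : ↥(D.group F) := ⟨n, monomial_le_group hW hn⟩
  refine ⟨ρ.dual N⁻¹ ψ, fun w hw h0 => ?_⟩
  have hker : lowSpan ρ.dual ψ ≤ LinearMap.ker (Module.Dual.eval k V (ρ N w)) := by
    refine Submodule.span_le.2 ?_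
    rintro _ ⟨⟨u, hu⟩, rfl⟩
    simp only [SetLike.mem_coe, LinearMap.mem_ker, Module.Dual.eval_apply,
      Representation.dual_apply, Module.Dual.transpose_apply, LinearMap.comp_apply]
    have hu' : u⁻¹.val ∈ (D.posUnipotent F).map (MulAut.conj n).toMonoidHom := by
      rw [hmap]; exact mem_uNeg.1 (inv_mem hu)
    obtain ⟨z, hz, e⟩ := hu'
    have e' : u⁻¹ * N = N * ⟨z, pos_le_group hW hz⟩ := Subtype.ext (by
      show ((u⁻¹ : ↥(D.group F)) : GL D.Idx F) * n = n * z
      rw [← e]
      show n * z * n⁻¹ * n = n * z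
      group)
    rw [← rho_mul_apply, e', rho_mul_apply, hw _ (mem_uSub.2 hz)]
    simpa [Representation.dual_apply, Module.Dual.transpose_apply] using h0
  have hall : ∀ χ : Module.Dual k V, χ (ρ N w) = 0 := fun χ =>
    LinearMap.mem_ker.1 (hker (htop ▸ Submodule.mem_top : χ ∈ _))
  have hNw : ρ N w = 0 := (Module.forall_dual_apply_eq_zero_iff k _).1 hall
  have := ρ.inv_self_apply N w
  rw [hNw, map_zero] at this
  exact this.symm

include p h in
/-- A simple module has weight vectors of one type only. -/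
theorem type_unique [IsAlgClosed k] [FiniteDimensional k V] (hs : Simple ρ) {o o' : WType D F k}
    {v v' : V} (hv : HasType hW ρ o v) (hv' : HasType hW ρ o' v') : o = o' := by
  obtain ⟨φ, hφ⟩ := fixU_eq_smul (p := p) hW h hs
  have h0 : φ v' • v - φ v • v' = 0 := hφ _
    (sub_mem ((fixU ρ).smul_mem _ hv.fixed) ((fixU ρ).smul_mem _ hv'.fixed))
    (by simp [mul_comm])
  have hφv : φ v ≠ 0 := fun e => hv.ne (hφ v hv.fixed e)
  have e : v' = ((φ v)⁻¹ * φ v') • v := by
    rw [← smul_smul, sub_eq_zero.1 h0, inv_smul_smul₀ hφv]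
  have hv'' : HasType hW ρ o v' := by
    rw [e]
    exact hv.map (ρ' := ρ) (((φ v)⁻¹ * φ v') • LinearMap.id)
      (fun g x => by simp [map_smul]) (by simpa [← e] using hv'.ne)
  exact hv''.unique p hv'

variable {V' : Type*} [AddCommGroup V'] [Module k V'] [FiniteDimensional k V']
  {ρ' : Representation k ↥(D.group F) V'}

include p in
/-- Simple modules of one type have equal traces. -/
theorem trace_eq_of_type [FiniteDimensional k V] (hs : Simple ρ) (hs' : Simple ρ')
    {o : WType D F k} {v : V} {v' : V'} (hv : HasType hW ρ o v) (hv' : HasType hW ρ' o v')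
    (g : ↥(D.group F)) : LinearMap.trace k V (ρ g) = LinearMap.trace k V' (ρ' g) := by
  haveI : Fintype ↥(D.group F) := Fintype.ofFinite _
  set P := SLDefect.pairRep ρ ρ'
  have hP : ∀ g x, P g x = (ρ g x.1, ρ' g x.2) := fun g x => rfl
  have hpair : HasType hW P o (v, v') := by
    refine ⟨fun e => hv.ne (congrArg Prod.fst e), fun u hu => ?_, fun c => ?_, fun i => ?_⟩
    · rw [hP, hv.fixed u hu, hv'.fixed u hu]
    · rw [hP, hv.tor, hv'.tor]; rfl
    · have e1 := hv.op i
      have e2 := hv'.op i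
      rw [sOp_apply] at e1 e2 ⊢
      refine Prod.ext ?_ ?_
      · simp only [Prod.fst_sum, hP, Prod.smul_fst]; exact e1
      · simp only [Prod.snd_sum, hP, Prod.smul_snd]; exact e2
  set W := lowSpan P (v, v')
  have hWst := hpair.lowSpan_stable
  have hvW : (v, v') ∈ W := self_mem_lowSpan P (v, v')
  obtain ⟨φ, hφv, hφ⟩ := exists_low_functional (p := p) hW hv.ne (lowSpan_eq_top hv hs)
  obtain ⟨φ', hφv', hφ'⟩ :=
    exists_low_functional (p := p) hW hv'.ne (lowSpan_eq_top hv' hs')
  let Φ : V × V' →ₗ[k] k :=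
    φ' v' • (φ ∘ₗ LinearMap.fst k V V') - φ v • (φ' ∘ₗ LinearMap.snd k V V')
  have hWΦ : W ≤ LinearMap.ker Φ := by
    refine Submodule.span_le.2 ?_
    rintro _ ⟨u, rfl⟩
    simp only [SetLike.mem_coe, LinearMap.mem_ker, Φ, hP, LinearMap.sub_apply,
      LinearMap.smul_apply, LinearMap.comp_apply, LinearMap.fst_apply, LinearMap.snd_apply,
      hφ _ u.2, hφ' _ u.2, smul_eq_mul]
    ring
  have hWne : W ≠ ⊤ := by
    intro e
    have h1 : Φ (v, 0) = 0 := LinearMap.mem_ker.1 (hWΦ (e ▸ Submodule.mem_top))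
    simp [Φ, hφv, hφv'] at h1
  have hproj : Submodule.map (LinearMap.fst k V V') W = ⊤ ∧
      Submodule.map (LinearMap.snd k V V') W = ⊤ := by
    constructor
    · refine ((hs.2 _) fun g x hx => ?_).resolve_left fun e => hv.ne ((Submodule.mem_bot k).1
        (e ▸ ⟨_, hvW, rfl⟩))
      obtain ⟨y, hy, rfl⟩ := hx
      exact ⟨_, hWst g y hy, rfl⟩
    · refine ((hs'.2 _) fun g x hx => ?_).resolve_left fun e => hv'.ne ((Submodule.mem_bot k).1
        (e ▸ ⟨_, hvW, rfl⟩))
      obtain ⟨y, hy, rfl⟩ := hx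
      exact ⟨_, hWst g y hy, rfl⟩
  have h1 : W.comap (LinearMap.inl k V V') = ⊥ := by
    refine ((hs.2 _) fun g x hx => ?_).resolve_right fun e => hWne ?_
    · have := hWst g _ (Submodule.mem_comap.1 hx)
      rw [hP] at this
      simpa using this
    · refine eq_top_iff.2 fun x _ => ?_
      obtain ⟨y, hy, hy2⟩ : x.2 ∈ Submodule.map (LinearMap.snd k V V') W :=
        hproj.2.symm ▸ Submodule.mem_top
      have hd : (x.1 - y.1, (0 : V')) ∈ W :=
        Submodule.mem_comap.1 (e.symm ▸ Submodule.mem_top :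
          x.1 - y.1 ∈ W.comap (LinearMap.inl k V V'))
      have := W.add_mem hy hd
      rwa [show y + (x.1 - y.1, (0 : V')) = x from
        Prod.ext (by simp) (by simpa using hy2)] at this
  have h2 : W.comap (LinearMap.inr k V V') = ⊥ := by
    refine ((hs'.2 _) fun g x hx => ?_).resolve_right fun e => hWne ?_
    · have := hWst g _ (Submodule.mem_comap.1 hx)
      rw [hP] at this
      simpa using this
    · refine eq_top_iff.2 fun x _ => ?_
      obtain ⟨y, hy, hy1⟩ : x.1 ∈ Submodule.map (LinearMap.fst k V V') W :=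
        hproj.1.symm ▸ Submodule.mem_top
      have hd : ((0 : V), x.2 - y.2) ∈ W :=
        Submodule.mem_comap.1 (e.symm ▸ Submodule.mem_top :
          x.2 - y.2 ∈ W.comap (LinearMap.inr k V V'))
      have := W.add_mem hy hd
      rwa [show y + ((0 : V), x.2 - y.2) = x from
        Prod.ext (by simpa using hy1) (by simp)] at this
  set a : W →ₗ[k] V := LinearMap.fst k V V' ∘ₗ W.subtype
  set b : W →ₗ[k] V' := LinearMap.snd k V V' ∘ₗ W.subtype
  have hab : Function.Bijective a ∧ Function.Bijective b := by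
    refine ⟨⟨?_, ?_⟩, ⟨?_, ?_⟩⟩
    · rw [← LinearMap.ker_eq_bot, LinearMap.ker_eq_bot']
      rintro ⟨⟨x, y⟩, hx⟩ hx0
      obtain rfl : x = 0 := hx0
      obtain rfl : y = 0 := (Submodule.mem_bot k).1 (h2 ▸ (show y ∈ W.comap _ from hx))
      rfl
    · intro x
      obtain ⟨y, hy, e⟩ : x ∈ Submodule.map (LinearMap.fst k V V') W :=
        hproj.1.symm ▸ Submodule.mem_top
      exact ⟨⟨y, hy⟩, e⟩
    · rw [← LinearMap.ker_eq_bot, LinearMap.ker_eq_bot']
      rintro ⟨⟨x, y⟩, hx⟩ hy0
      obtain rfl : y = 0 := hy0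
      obtain rfl : x = 0 := (Submodule.mem_bot k).1 (h1 ▸ (show x ∈ W.comap _ from hx))
      rfl
    · intro x
      obtain ⟨y, hy, e⟩ : x ∈ Submodule.map (LinearMap.snd k V V') W :=
        hproj.2.symm ▸ Submodule.mem_top
      exact ⟨⟨y, hy⟩, e⟩
  set e : V ≃ₗ[k] V' :=
    (LinearEquiv.ofBijective a hab.1).symm.trans (LinearEquiv.ofBijective b hab.2)
  have hint : ρ' g = e.conj (ρ g) := by
    refine LinearMap.ext fun y => ?_
    obtain ⟨z, rfl⟩ := hab.2.2 y
    have e1 : e (a z) = b z := by simp [e]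
    rw [LinearEquiv.conj_apply_apply, show e.symm (b z) = a z by rw [← e1, LinearEquiv.symm_apply_apply]]
    have e2 : e (a ⟨P g z.1, hWst g _ z.2⟩) = b ⟨P g z.1, hWst g _ z.2⟩ := by simp [e]
    exact e2.symm
  rw [hint, LinearMap.trace_conj']

end CfsgLib.ChevBrauer
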