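import Mathlib
import Cfsg.Agent.ChevBrauer.Weight
import Cfsg.Agent.ChevBrauer.Levi
import Cfsg.Agent.ChevSteinberg.Cosets

/-!
# A simple module of every type

For the set `K'` of roots with trivial character and scalar `0` let `w` carry `K` onto `K'` and
every other root go down.  The sum over `U n_w` of a torus eigenvector in the functions on the
cosets of the derived parabolic of `K` is a weight vector of the given type.
-/

set_option autoImplicit false
set_option linter.unusedSectionVars false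
set_option linter.style.haveILetI false

namespace CfsgLib.ChevBrauer

open Cfsg.Lie CfsgLib CfsgLib.Chevalley CfsgLib.ChevFieldAut CfsgLib.ChevDefect CfsgLib.ChevUnip
open scoped MatrixGroups

universe u v

variable {D : ChevalleyDatum} {C : Weyl.Cert D.rank} {M : CoxeterMatrix (Fin D.rank)}
  {R : Weyl.RootTable} {F : Type u} [Field F] (hW : GoodWeyl D) (h : Weyl.RootGood C M R)
  {k : Type v} [Field k]

local notation "ℓ" => CoxeterSystem.length (CoxeterMatrix.toCoxeterSystem M)

include h in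
theorem hK_le_derPar {K : Finset (Fin D.rank)} : hK F K ≤ derPar hW F K := by
  rintro _ ⟨c, hc, rfl⟩
  show torC D c ∈ _
  rw [torC_eq_prod hW]
  refine Subgroup.list_prod_mem _ fun x hx => ?_
  obtain ⟨j, -, rfl⟩ := List.mem_map.1 hx
  by_cases hj : j ∈ K
  · have hX : ∀ t : F, X hW.good (pRoot hW j) t ∈ derPar hW F K := fun t =>
      pos_le_derPar hW (X_mem_pos hW.good (pRoot_pos hW j) t)
    have hX' : ∀ t : F, X hW.good (pRoot hW j).rev t ∈ derPar hW F K := fun t => by
      have := ChevDefect.nR_conj_X' hW j (-t)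
      rw [neg_neg] at this
      rw [← this]
      exact mul_mem (mul_mem (nR_mem_derPar hW hj) (hX _)) (inv_mem (nR_mem_derPar hW hj))
    rw [← hElt_pRoot hW j (c j)]
    exact mul_mem (mul_mem (mul_mem (hX _) (hX' _)) (hX _)) (mul_mem (mul_mem (hX _) (hX' _)) (hX _))
  · rw [hc j hj, hT_one]
    exact one_mem _

include h in
/-- A monomial element carrying `K` into `K'` carries the torus of `K` into that of `K'`. -/
theorem conj_hK {K K' : Finset (Fin D.rank)} {n : GL D.Idx F} {w : M.Group}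
    (hn : MonBy hW n (h.rootPerm w))
    (hw : ∀ j ∈ K, ∃ i ∈ K', h.rootPerm w (h.simpleRoot j) = h.simpleRoot i) {z : GL D.Idx F}
    (hz : z ∈ hK F K) : n * z * n⁻¹ ∈ hK F K' := by
  obtain ⟨c, hc, rfl⟩ := hz
  show n * torC D c * n⁻¹ ∈ _
  rw [torC_eq_prod hW, show ∀ x : GL D.Idx F, n * x * n⁻¹ = MulAut.conj n x from fun x => rfl,
    map_list_prod]
  refine Subgroup.list_prod_mem _ fun x hx => ?_
  simp only [List.mem_map] at hx
  obtain ⟨_, ⟨j, -, rfl⟩, rfl⟩ := hx
  rw [MulAut.conj_apply]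
  by_cases hj : j ∈ K
  · obtain ⟨i, hi, e⟩ := hw j hj
    rw [simpleRoot_eq hW h, simpleRoot_eq hW h] at e
    obtain ⟨a, ha⟩ := hn.conj_nElt (pRoot hW j) (c j)
    obtain ⟨b, hb⟩ := hn.conj_nElt (pRoot hW j) (-1)
    rw [← hElt_pRoot hW j (c j), show ∀ x y : GL D.Idx F, n * (x * y) * n⁻¹ =
      (n * x * n⁻¹) * (n * y * n⁻¹) from fun x y => by group, ha, hb, e,
      show nElt hW.good (pRoot hW i) a = hT F (pRoot hW i) a * nR hW i from nWord_eq hW i a,
      show nElt hW.good (pRoot hW i) b = hT F (pRoot hW i) b * nR hW i from nWord_eq hW i b,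
      show ∀ x m y : GL D.Idx F, x * m * (y * m) = x * ((m * y * m⁻¹) * (m * m)) from
        fun x m y => by group]
    exact mul_mem (hT_pRoot_mem_hK hW h hi a) (mul_mem
      (nR_conj_hK hW h hi (hT_pRoot_mem_hK hW h hi b))
      (by rw [nR_sq hW]; exact hT_pRoot_mem_hK hW h hi _))
  · rw [hc j hj, hT_one, mul_one, mul_inv_cancel]
    exact one_mem _

include h in
/-- The representative carrying the complement of the descents onto `K'`. -/
theorem exists_carrier (K' : Finset (Fin D.rank)) : ∃ (K : Finset (Fin D.rank)) (w : M.Group),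
    (∀ j ∈ K, ∃ i ∈ K', h.rootPerm w (h.simpleRoot j) = h.simpleRoot i) ∧
    (∀ i ∈ K', ∃ j ∈ K, h.rootPerm w (h.simpleRoot j) = h.simpleRoot i) ∧
    (∀ i ∉ K', ¬ Weyl.PosIdx (h.rootPerm w⁻¹ (h.simpleRoot i))) := by
  classical
  obtain ⟨t₀, ht₀⟩ := exists_topRep h Finset.univ
  set K : Finset (Fin D.rank) := Finset.univ.filter fun m =>
    ∃ i ∈ K', h.rootPerm t₀ (h.simpleRoot m) = h.negRoot (h.simpleRoot i) with hK
  obtain ⟨t, ht⟩ := exists_topRep h K
  refine ⟨K, t₀ * t, fun j hj => ?_, fun i hi => ?_, fun i hi => ?_⟩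
  · obtain ⟨m, hm, -, e⟩ := exists_top_conj h ht hj
    obtain ⟨i, hi, e'⟩ := (Finset.mem_filter.1 hm).2
    exact ⟨i, hi, by rw [map_mul, Equiv.Perm.mul_apply, e, h.rootPerm_neg, e', h.negRoot_negRoot]⟩
  · obtain ⟨m, -, -, e⟩ := exists_top_conj h ht₀ (Finset.mem_univ i)
    have e1 : h.rootPerm t₀ (h.simpleRoot m) = h.negRoot (h.simpleRoot i) := by
      have := congrArg (h.rootPerm t₀) e
      rw [top_top_apply h ht₀, h.rootPerm_neg] at this
      rw [this, h.negRoot_negRoot]
    obtain ⟨j, hj, -, e2⟩ := exists_top_conj h ht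
      (Finset.mem_filter.2 ⟨Finset.mem_univ m, i, hi, e1⟩ : m ∈ K)
    have e3 : h.rootPerm t (h.simpleRoot j) = h.negRoot (h.simpleRoot m) := by
      have := congrArg (h.rootPerm t) e2
      rw [top_top_apply h ht, h.rootPerm_neg] at this
      rw [this, h.negRoot_negRoot]
    exact ⟨j, hj, by rw [map_mul, Equiv.Perm.mul_apply, e3, h.rootPerm_neg, e1, h.negRoot_negRoot]⟩
  · obtain ⟨m, -, -, e⟩ := exists_top_conj h ht₀ (Finset.mem_univ i)
    rw [mul_inv_rev, top_inv h ht, top_inv h ht₀, map_mul, Equiv.Perm.mul_apply, e, h.rootPerm_neg,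
      h.pos_negRoot, not_not]
    have hmK : ¬ SuppJ K (h.simpleRoot m) := by
      intro hs
      obtain ⟨i', hi', e'⟩ := (Finset.mem_filter.1 (mem_of_suppJ_simpleRoot h hs)).2
      have := congrArg (h.rootPerm t₀) e
      rw [top_top_apply h ht₀, h.rootPerm_neg, e', h.negRoot_negRoot] at this
      exact hi (ChevSS.simpleRoot_injective h this ▸ hi')
    exact (pos_apply_iff h ht.1 hmK).2 (h.pos_simpleRoot m)

/-! ### Weight lemmas -/

variable [Fintype F] {V : Type*} [AddCommGroup V] [Module k V]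
  (ρ : Representation k ↥(D.group F) V)

theorem sOp_weight (i : Fin D.rank) {g : ↥(D.group F)} (hg : (g : GL D.Idx F) ∈ D.diagonalSubgroup F)
    {v : V} {c : k} (hc : ρ ((nE hW i)⁻¹ * g * nE hW i) v = c • v) :
    ρ g (sOp hW ρ i v) = c • sOp hW ρ i v := by
  obtain ⟨a, ha⟩ := diag_conj_X hW hg (pRoot hW i)
  rw [sOp_apply, map_sum, Finset.smul_sum]
  refine Fintype.sum_equiv (Equiv.mulLeft₀ (a : F) a.ne_zero) _ _ fun t => ?_
  have h2 : g * (xE hW (pRoot hW i) t * nE hW i) =
      xE hW (pRoot hW i) ((a : F) * t) * nE hW i * ((nE hW i)⁻¹ * g * nE hW i) := by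
    refine Subtype.ext ?_
    show (g : GL D.Idx F) * (X hW.good (pRoot hW i) t * nR hW i) =
      X hW.good (pRoot hW i) ((a : F) * t) * nR hW i * ((nR hW i)⁻¹ * (g : GL D.Idx F) * nR hW i)
    rw [← ha]
    group
  rw [← rho_mul_apply, h2, rho_mul_apply, hc, map_smul]
  rfl

variable (p : ℕ) [Fact p.Prime] [CharP F p]

include p h in
theorem tOp_weight {v : V} (hv : v ∈ fixU ρ) :
    ∀ (d : ℕ) (m : ↥(D.monomialSubgroup F)), ℓ (weylHom hW h m) = d →
      ∀ (g : ↥(D.group F)), (g : GL D.Idx F) ∈ D.diagonalSubgroup F → ∀ c : k,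
        ρ ((mE hW m)⁻¹ * g * mE hW m) v = c • v →
          ρ g (tOp ρ (mE hW m) v) = c • tOp ρ (mE hW m) v := by
  intro d
  induction d with
  | zero =>
    intro m hm g hg c hc
    obtain ⟨hd, e⟩ := tOp_diag (p := p) hW h ρ (M.toCoxeterSystem.length_eq_zero_iff.1 hm) hv
    rw [e, ← rho_mul_apply, show g * mE hW m = mE hW m * ((mE hW m)⁻¹ * g * mE hW m) by group,
      rho_mul_apply, hc, map_smul]
  | succ d ih =>
    intro m hm g hg c hc
    have hne : weylHom hW h m ≠ 1 := fun e => by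
      rw [e, CoxeterSystem.length_one] at hm
      omega
    obtain ⟨i, hi⟩ := M.toCoxeterSystem.exists_leftDescent_of_ne_one hne
    rw [CoxeterSystem.isLeftDescent_iff, CoxeterMatrix.toCoxeterSystem_simple] at hi
    set m' : ↥(D.monomialSubgroup F) := ⟨nR hW i, nR_mem_monomial hW i⟩⁻¹ * m with hm'
    have hw' : weylHom hW h m' = M.simple i * weylHom hW h m := by
      rw [hm', map_mul, map_inv, weylHom_nR, ChevSteinberg.simple_inv]
    have hup : GoesUp hW h i (weylHom hW h m') := by
      rw [goesUp_iff, hw', ← mul_assoc, ChevSteinberg.simple_sq, one_mul]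
      exact hi.symm
    have e := tOp_step hW ρ h p i m' hup hv
    rw [hm', mul_inv_cancel_left] at e
    rw [e]
    refine sOp_weight hW ρ i hg (ih m' (by rw [hw']; omega) _ ?_ c ?_)
    · show (nR hW i)⁻¹ * (g : GL D.Idx F) * nR hW i ∈ _
      have := (Subgroup.mem_normalizer_iff.1 (monomial_le_normalizer hW
        (inv_mem (nR_mem_monomial (F := F) hW i))) (g : GL D.Idx F)).1 hg
      rwa [inv_inv] at this
    · rw [show (mE hW m')⁻¹ * ((nE hW i)⁻¹ * g * nE hW i) * mE hW m' =
        (mE hW m)⁻¹ * g * mE hW m from Subtype.ext (by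
          show ((nR hW i)⁻¹ * (m : GL D.Idx F))⁻¹ * ((nR hW i)⁻¹ * (g : GL D.Idx F) * nR hW i) *
            ((nR hW i)⁻¹ * (m : GL D.Idx F)) = (m : GL D.Idx F)⁻¹ * (g : GL D.Idx F) * (m : GL D.Idx F)
          group)]
      exact hc

include p h in
theorem tOp_mul_nR_zero {v : V} (hv : v ∈ fixU ρ) (he : IsEigen ρ v) {j : Fin D.rank}
    (h0 : sOp hW ρ j v = 0) :
    ∀ (d : ℕ) (m : ↥(D.monomialSubgroup F)), ℓ (weylHom hW h m) = d →
      ℓ (weylHom hW h m * M.simple j) = d + 1 →
      tOp ρ (mE hW (m * ⟨nR hW j, nR_mem_monomial hW j⟩)) v = 0 := by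
  intro d
  induction d with
  | zero =>
    intro m hm _
    have hd := (tOp_diag (p := p) hW h ρ (M.toCoxeterSystem.length_eq_zero_iff.1 hm) hv).1
    set nj : ↥(D.monomialSubgroup F) := ⟨nR hW j, nR_mem_monomial hW j⟩
    set m'' : ↥(D.monomialSubgroup F) := nj⁻¹ * m * nj
    have hw : weylHom hW h m'' = 1 := by
      rw [map_mul, map_mul, map_inv, M.toCoxeterSystem.length_eq_zero_iff.1 hm, mul_one,
        inv_mul_cancel]
    obtain ⟨hd', e'⟩ := tOp_diag (p := p) hW h ρ hw hv
    obtain ⟨c, hc⟩ := he (mE hW m'') hd'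
    have hup : GoesUp hW h j (weylHom hW h m'') := by
      rw [hw, GoesUp, inv_one, map_one, Equiv.Perm.one_apply]
      exact pRoot_pos hW j
    rw [show m * nj = nj * m'' by simp only [m'']; group, tOp_step hW ρ h p j m'' hup hv, e', hc,
      map_smul, h0, smul_zero]
  | succ d ih =>
    intro m hm hmj
    have hne : weylHom hW h m ≠ 1 := fun e => by
      rw [e, CoxeterSystem.length_one] at hm
      omega
    obtain ⟨i, hi⟩ := M.toCoxeterSystem.exists_leftDescent_of_ne_one hne
    rw [CoxeterSystem.isLeftDescent_iff, CoxeterMatrix.toCoxeterSystem_simple] at hi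
    set nj : ↥(D.monomialSubgroup F) := ⟨nR hW j, nR_mem_monomial hW j⟩
    set ni : ↥(D.monomialSubgroup F) := ⟨nR hW i, nR_mem_monomial hW i⟩
    have hw' : weylHom hW h (ni⁻¹ * m) = M.simple i * weylHom hW h m := by
      rw [map_mul, map_inv, weylHom_nR, ChevSteinberg.simple_inv]
    have h1 : ℓ (M.simple i * weylHom hW h m * M.simple j) ≤ d + 1 := by
      have := M.toCoxeterSystem.length_mul_le (M.simple i * weylHom hW h m) (M.simple j)
      have h2 := M.toCoxeterSystem.length_simple j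
      rw [CoxeterMatrix.toCoxeterSystem_simple] at h2
      omega
    have h3 : ℓ (weylHom hW h m * M.simple j) ≤
        ℓ (M.simple i * weylHom hW h m * M.simple j) + 1 := by
      have := M.toCoxeterSystem.length_simple_mul (weylHom hW h m * M.simple j) i
      rw [CoxeterMatrix.toCoxeterSystem_simple, ← mul_assoc] at this
      omega
    have hup : GoesUp hW h i (weylHom hW h (ni⁻¹ * m * nj)) := by
      rw [goesUp_iff, map_mul, hw', weylHom_nR, ← mul_assoc, ← mul_assoc, ChevSteinberg.simple_sq,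
        one_mul]
      omega
    have e := tOp_step hW ρ h p i (ni⁻¹ * m * nj) hup hv
    rw [show ni * (ni⁻¹ * m * nj) = m * nj by group] at e
    rw [e, ih (ni⁻¹ * m) (by rw [hw']; omega) (by rw [hw']; omega), map_zero]

/-! ### The module -/

/-- A simple module with a weight vector of the given type. -/
structure TypedSimple (hW : GoodWeyl D) (k : Type v) [Field k] (o : WType D F k) where
  carrier : Type (max u v)
  [grp : AddCommGroup carrier]
  [mod : Module k carrier]
  [fd : FiniteDimensional k carrier]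
  rep : Representation k ↥(D.group F) carrier
  simple : Simple rep
  vec : carrier
  hasType : HasType hW rep o vec

theorem nonempty_typedSimple_of_vec {V : Type (max u v)} [AddCommGroup V] [Module k V]
    [FiniteDimensional k V] {ρ : Representation k ↥(D.group F) V} {o : WType D F k} {x : V}
    (hx : HasType hW ρ o x) : Nonempty (TypedSimple hW k o) := by
  classical
  haveI : Fintype ↥(D.group F) := Fintype.ofFinite _
  set W := lowSpan ρ x
  set σ := subRep ρ W hx.lowSpan_stable
  set xW : W := ⟨x, self_mem_lowSpan ρ x⟩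
  have hxW : HasType hW σ o xW := by
    refine ⟨fun e => hx.ne (congrArg Subtype.val e), fun u hu => Subtype.ext (hx.fixed u hu),
      fun c => Subtype.ext (hx.tor c), fun i => Subtype.ext ?_⟩
    rw [sOp_apply, Submodule.coe_sum, SetLike.val_smul, ← hx.op i, sOp_apply]
    rfl
  have hgen : ∀ Q : Submodule k W, (∀ g, ∀ y ∈ Q, σ g y ∈ Q) → xW ∈ Q → Q = ⊤ := by
    intro Q hQ hxQ
    refine eq_top_iff.2 fun y _ => ?_
    have hle : W ≤ Q.map W.subtype := by
      refine Submodule.span_le.2 ?_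
      rintro _ ⟨u, rfl⟩
      exact ⟨σ u xW, hQ u xW hxQ, rfl⟩
    obtain ⟨z, hz, e⟩ := hle y.2
    exact (Subtype.ext e : z = y) ▸ hz
  let S : Set (Submodule k W) := {Q | (∀ g, ∀ y ∈ Q, σ g y ∈ Q) ∧ Q ≠ ⊤}
  have hbot : (⊥ : Submodule k W) ≠ ⊤ := fun e =>
    hxW.ne ((Submodule.mem_bot k).1 (e ▸ Submodule.mem_top))
  obtain ⟨Q, ⟨hQst, hQne⟩, hmax⟩ := (wellFounded_gt (α := Submodule k W)).has_min S
    ⟨⊥, fun g y hy => by rw [(Submodule.mem_bot k).1 hy, map_zero]; exact zero_mem _, hbot⟩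
  have hxQ : xW ∉ Q := fun e => hQne (hgen Q hQst e)
  have hne : Q.mkQ xW ≠ 0 := fun e => hxQ ((Submodule.Quotient.mk_eq_zero Q).1 e)
  refine ⟨⟨W ⧸ Q, quotRep σ Q hQst, ⟨⟨⟨_, _, hne⟩⟩, fun Z hZ => ?_⟩, _,
    hxW.map (ρ' := quotRep σ Q hQst) Q.mkQ (fun g y => rfl) hne⟩⟩
  have hst : ∀ g, ∀ y ∈ Z.comap Q.mkQ, σ g y ∈ Z.comap Q.mkQ := fun g y hy => hZ g _ hy
  by_cases htop : Z.comap Q.mkQ = ⊤
  · right
    exact Submodule.comap_injective_of_surjective Q.mkQ_surjective (htop.trans (Submodule.comap_top _).symm)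
  · left
    have hle : Q ≤ Z.comap Q.mkQ := fun y hy => by
      rw [Submodule.mem_comap, Submodule.mkQ_apply, (Submodule.Quotient.mk_eq_zero Q).2 hy]
      exact zero_mem _
    have heq : Z.comap Q.mkQ = Q :=
      (eq_of_le_of_not_lt hle fun hlt => hmax _ ⟨hst, htop⟩ hlt).symm
    exact Submodule.comap_injective_of_surjective Q.mkQ_surjective
      (heq.trans (by rw [Submodule.comap_bot, Submodule.ker_mkQ]))

include p h in
set_option maxHeartbeats 1600000 in
/-- Every type occurs. -/
theorem nonempty_typedSimple [CharP k p] (hinj : Function.Injective (torHom D F)) (o : WType D F k) :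
    Nonempty (TypedSimple hW k o) := by
  classical
  haveI : Fintype ↥(D.group F) := Fintype.ofFinite _
  haveI : Fintype Fˣ := Fintype.ofFinite _
  set K' : Finset (Fin D.rank) := Finset.univ.filter fun i => o i = none with hK'
  obtain ⟨K, w, hwK, hwK', hwdown⟩ := exists_carrier h K'
  set P : Subgroup ↥(D.group F) := (derPar hW F K).subgroupOf (D.group F)
  set ρ : Representation k ↥(D.group F) (↥(D.group F) ⧸ P → k) := funRep k _ _
  set x₁ : ↥(D.group F) ⧸ P := ((1 : ↥(D.group F)) : ↥(D.group F) ⧸ P)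
  set e : ↥(D.group F) ⧸ P → k := Pi.single x₁ 1 with he
  have hρe : ∀ g : ↥(D.group F), ρ g e = Pi.single (g : ↥(D.group F) ⧸ P) 1 := by
    intro g
    funext y
    show e (g⁻¹ • y) = _
    have h1 : (g • x₁ : ↥(D.group F) ⧸ P) = (g : ↥(D.group F) ⧸ P) := by
      show ((g * 1 : ↥(D.group F)) : ↥(D.group F) ⧸ P) = _
      rw [mul_one]
    simp only [he, Pi.single_apply, inv_smul_eq_iff, h1]
  have hfixe : ∀ g ∈ P, ρ g e = e := by
    intro g hg
    rw [hρe, he]
    congr 1
    exact QuotientGroup.eq.2 (by simpa using inv_mem hg)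
  set m : ↥(D.monomialSubgroup F) := ⟨nW hW h F w, nW_mem hW h w⟩
  have hwm : weylHom hW h m = w := weylHom_nW hW h w _
  set N := mE hW m
  let cj : (Fin D.rank → Fˣ) →* ↥(D.group F) :=
    (MulAut.conj N⁻¹).toMonoidHom.comp (torE hW)
  have hcj : ∀ c, cj c = N⁻¹ * torE hW c * N := fun c => by
    show MulAut.conj N⁻¹ (torE hW c) = _
    rw [MulAut.conj_apply, inv_inv]
  have hcjd : ∀ c, (cj c : GL D.Idx F) ∈ D.diagonalSubgroup F := by
    intro c
    rw [hcj]
    have := (Subgroup.mem_normalizer_iff.1 (monomial_le_normalizer hW (inv_mem m.2))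
      (torC D c)).1 (by rw [diagonalSubgroup_eq_range hW]; exact ⟨c, rfl⟩)
    rwa [inv_inv] at this
  set μ := wgt o
  set e' : ↥(D.group F) ⧸ P → k := ∑ c, (((μ c)⁻¹ : kˣ) : k) • ρ (cj c) e with he'
  have hfix_diag : ∀ g : ↥(D.group F), (g : GL D.Idx F) ∈ D.diagonalSubgroup F →
      ρ g e ∈ fixU ρ := by
    intro g hg u hu
    have hmem : g⁻¹ * u * g ∈ P := by
      refine Subgroup.mem_subgroupOf.2 (pos_le_derPar hW ?_)
      have := (Subgroup.mem_normalizer_iff.1 (diag_le_normalizer_pos hW (inv_mem hg))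
        (u : GL D.Idx F)).1 (mem_uSub.1 hu)
      rw [inv_inv] at this
      exact this
    rw [← rho_mul_apply, show u * g = g * (g⁻¹ * u * g) by group, rho_mul_apply, hfixe _ hmem]
  have hfix : e' ∈ fixU ρ := Submodule.sum_mem _ fun c _ =>
    Submodule.smul_mem _ _ (hfix_diag _ (hcjd c))
  have htor : ∀ d, ρ (cj d) e' = (μ d : k) • e' := by
    intro d
    rw [he', map_sum, Finset.smul_sum]
    refine Fintype.sum_equiv (Equiv.mulLeft d) _ _ fun c => ?_
    rw [Equiv.coe_mulLeft, map_smul, ← rho_mul_apply, ← map_mul cj, smul_smul, map_mul μ,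
      mul_inv, Units.val_mul, ← mul_assoc, Units.mul_inv, one_mul]
  have heig : IsEigen ρ e' := by
    intro g hg
    obtain ⟨d, hd⟩ := exists_torE hW (g := N * g * N⁻¹)
      ((Subgroup.mem_normalizer_iff.1 (monomial_le_normalizer hW m.2) (g : GL D.Idx F)).1 hg)
    refine ⟨(μ d : k), ?_⟩
    rw [← htor d, hcj, hd, show N⁻¹ * (N * g * N⁻¹) * N = g by group]
  have hq : (Fintype.card F : k) = 0 := by
    obtain ⟨f, -, hf⟩ := FiniteField.card F p
    rw [hf, Nat.cast_pow, CharP.cast_eq_zero, zero_pow f.pos.ne']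
  have hkill : ∀ j ∈ K, sOp hW ρ j e' = 0 := by
    intro j hj
    rw [he', map_sum]
    refine Finset.sum_eq_zero fun c _ => ?_
    rw [map_smul, sOp_apply]
    set g := nE hW j * cj c * (nE hW j)⁻¹
    have hg : (g : GL D.Idx F) ∈ D.diagonalSubgroup F :=
      (Subgroup.mem_normalizer_iff.1 (monomial_le_normalizer hW (nR_mem_monomial hW j)) _).1 (hcjd c)
    have hn : ρ (nE hW j) (ρ (cj c) e) = ρ g e := by
      rw [← rho_mul_apply, show nE hW j * cj c = g * nE hW j by simp only [g]; group, rho_mul_apply,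
        hfixe (nE hW j) (Subgroup.mem_subgroupOf.2 (nR_mem_derPar hW hj))]
    rw [Finset.sum_congr rfl fun t _ => by
      rw [rho_mul_apply, hn, x_fixed hW ρ (hfix_diag g hg)],
      Finset.sum_const, Finset.card_univ, ← Nat.cast_smul_eq_nsmul k, hq, zero_smul, smul_zero]
  obtain ⟨hvfix, -⟩ := tOp_props (p := p) hW h ρ hfix heig _ m rfl
  set x := tOp ρ N e' with hx
  have hxtor : ∀ d, ρ (torE hW d) x = (μ d : k) • x := fun d =>
    tOp_weight hW h ρ p hfix _ m rfl _
      (by rw [coe_torE, diagonalSubgroup_eq_range hW]; exact ⟨d, rfl⟩) _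
      (by rw [← hcj]; exact htor d)
  have hxop : ∀ i, sOp hW ρ i x = scal (o i) • x := by
    intro i
    set ni : ↥(D.monomialSubgroup F) := ⟨nR hW i, nR_mem_monomial hW i⟩
    rcases ho : o i with _ | ν
    · rw [show scal (none : Option (Fˣ →* kˣ)) = 0 from rfl, zero_smul]
      obtain ⟨j, hj, ej⟩ := hwK' i (Finset.mem_filter.2 ⟨Finset.mem_univ i, ho⟩)
      have hlj : ℓ (w * M.simple j) = ℓ w + 1 := by
        rcases M.toCoxeterSystem.length_mul_simple w j with e1 | e1 <;>
          rw [CoxeterMatrix.toCoxeterSystem_simple] at e1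
        · exact e1
        · refine absurd ((h.length_mul_simple_lt_iff w j).1 (by omega)) (not_not.2 ?_)
          rw [ej]
          exact h.pos_simpleRoot i
      have hcomm : w * M.simple j = M.simple i * w := ChevSteinberg.mul_simple_eq h ej
      have hup : GoesUp hW h i (weylHom hW h m) := by
        rw [goesUp_iff, hwm, ← hcomm, hlj]
      rw [hx, ← tOp_step hW ρ h p i m hup hfix]
      set nj : ↥(D.monomialSubgroup F) := ⟨nR hW j, nR_mem_monomial hW j⟩
      have hw2 : weylHom hW h (ni * m * nj⁻¹) = w := by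
        rw [map_mul, map_mul, map_inv, weylHom_nR, weylHom_nR, hwm, ← hcomm, mul_inv_cancel_right]
      rw [show ni * m = ni * m * nj⁻¹ * nj by group]
      exact tOp_mul_nR_zero hW h ρ p hfix heig (hkill j hj) _ _ rfl (by rw [hw2, hlj])
    · have hiK : i ∉ K' := by simp [hK', ho]
      have hl : ℓ (M.simple i * w) + 1 = ℓ w := by
        have h1 := (h.length_mul_simple_lt_iff w⁻¹ i).2 (hwdown i hiK)
        rw [show w⁻¹ * M.simple i = (M.simple i * w)⁻¹ by rw [mul_inv_rev, ChevSteinberg.simple_inv],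
          M.toCoxeterSystem.length_inv, M.toCoxeterSystem.length_inv] at h1
        rcases M.toCoxeterSystem.length_simple_mul w i with e1 | e1 <;>
          rw [CoxeterMatrix.toCoxeterSystem_simple] at e1 <;> omega
      have hw' : weylHom hW h (ni⁻¹ * m) = M.simple i * w := by
        rw [map_mul, map_inv, weylHom_nR, hwm, ChevSteinberg.simple_inv]
      have hup : GoesUp hW h i (weylHom hW h (ni⁻¹ * m)) := by
        rw [goesUp_iff, hw', ← mul_assoc, ChevSteinberg.simple_sq, one_mul]
        exact hl.symm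
      have e1 := tOp_step hW ρ h p i (ni⁻¹ * m) hup hfix
      rw [mul_inv_cancel_left] at e1
      obtain ⟨hfix', -⟩ := tOp_props (p := p) hW h ρ hfix heig _ (ni⁻¹ * m) rfl
      have hν : ∀ d, ρ (hE hW (pRoot hW i) d) (tOp ρ (mE hW (ni⁻¹ * m)) e') =
          ((chr o i)⁻¹ d : kˣ).val • tOp ρ (mE hW (ni⁻¹ * m)) e' := by
        intro d
        refine tOp_weight hW h ρ p hfix _ _ rfl _ (hT_mem_diagonal hW _ d) _ ?_
        have harg : (mE hW (ni⁻¹ * m))⁻¹ * hE hW (pRoot hW i) d * mE hW (ni⁻¹ * m) =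
            cj (Pi.mulSingle i d⁻¹) := by
          rw [hcj, torE_mulSingle]
          refine Subtype.ext ?_
          show ((nR hW i)⁻¹ * (m : GL D.Idx F))⁻¹ * hT F (pRoot hW i) d *
            ((nR hW i)⁻¹ * (m : GL D.Idx F)) =
            (m : GL D.Idx F)⁻¹ * hT F (pRoot hW i) d⁻¹ * (m : GL D.Idx F)
          have h1 := ChevDefect.nR_inv_hT (F := F) hW i d⁻¹
          rw [inv_inv] at h1
          rw [← h1]
          group
        rw [harg, htor, show μ (Pi.mulSingle i d⁻¹) = chr o i d⁻¹ from wgt_mulSingle o i d⁻¹,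
          map_inv]
        rfl
      rw [hx, e1, sOp_sOp_eq hW ρ p i hfix' hν, sq_inv, scal]
      simp [chr, ho]
  -- the value at `n_w`
  have hS : ∀ u ∈ uSub D F, ∀ c, (u * torE hW c * N)⁻¹ * N ∈ P →
      N⁻¹ * u * N ∈ uSub D F ∧ ((cj c : ↥(D.group F)) : GL D.Idx F) ∈ hK F K := by
    intro u hu c hP
    set n : GL D.Idx F := (m : GL D.Idx F)
    set g : GL D.Idx F := (u : GL D.Idx F) * torC D c
    have hy : n⁻¹ * g * n ∈ derPar hW F K := by
      have := inv_mem (Subgroup.mem_subgroupOf.1 hP)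
      rwa [show ((((u * torE hW c * N)⁻¹ * N : ↥(D.group F))) : GL D.Idx F)⁻¹ = n⁻¹ * g * n from by
        show ((g * n)⁻¹ * n)⁻¹ = _
        group] at this
    have htd : torC D c ∈ D.diagonalSubgroup F := by
      rw [diagonalSubgroup_eq_range hW]; exact ⟨c, rfl⟩
    have hgB : g ∈ D.borelSubgroup F :=
      mul_mem (pos_le_borel D (mem_uSub.1 hu)) (diag_le_borel D htd)
    obtain ⟨a, ha, l, hl, b, hb, ey⟩ := exists_form_of_mem hW h hy
    obtain ⟨z, hz, hlz⟩ := hl.exists_monBy hW h
    have hcl : a * l * b ∈ cell hW h F z := by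
      have := mem_cell_self hW h (⟨l, hl.mem_monomial hW⟩ : ↥(D.monomialSubgroup F))
      rw [weylHom_eq hW h hlz] at this
      exact cell_mul_borel_mem hW h (borel_mul_mem_cell hW h (pos_le_borel D ha) this)
        (pos_le_borel D hb)
    have hlen : ℓ (w * z) = ℓ w + ℓ z :=
      length_minRep_mul h (fun j hj => by
        obtain ⟨i, -, ei⟩ := hwK j hj
        rw [ei]
        exact h.pos_simpleRoot i) hz
    have h1 := ChevSteinberg.cell_mul_cell hW h hlen (nW_mem_cell (F := F) hW h w) hcl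
    have h2 : g * n ∈ cell hW h F w := borel_mul_mem_cell hW h hgB (nW_mem_cell hW h w)
    rw [← ey, show nW hW h F w * (n⁻¹ * g * n) = g * n by
      show n * (n⁻¹ * g * n) = _
      group] at h1
    have hz1 : z = 1 := by
      have := cell_eq_of_mem hW h h1 h2
      exact mul_eq_left.1 this
    subst hz1
    rw [map_one] at hlz
    have hlK := hl.mem_hK hW h hlz
    have hnt : n⁻¹ * torC D c * n ∈ D.diagonalSubgroup F := by
      have := hcjd c
      rw [hcj] at this
      exact this
    have hu' : n⁻¹ * (u : GL D.Idx F) * n ∈ D.posUnipotent F := by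
      refine ChevUnip.mem_pos_of_pel p hW ?_ ?_
      · rw [show n⁻¹ * (u : GL D.Idx F) * n = (n⁻¹ * g * n) * (n⁻¹ * torC D c * n)⁻¹ by
          simp only [g]; group, ey]
        exact mul_mem (mul_mem (mul_mem (pos_le_borel D ha)
          (diag_le_borel D (hK_le_diag hW hlK))) (pos_le_borel D hb))
          (inv_mem (diag_le_borel D hnt))
      · have := (ChevUnip.pel_of_mem_pos p hW (mem_uSub.1 hu)).conj n⁻¹
        rwa [inv_inv] at this
    refine ⟨mem_uSub.2 hu', ?_⟩
    rw [hcj]
    show n⁻¹ * torC D c * n ∈ hK F K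
    refine mem_hK_of_diag hW h hnt (mul_mem (inv_mem hu') ha) hb hlK ?_
    rw [mul_assoc _ a, mul_assoc _ (a * l), ← ey]
    simp only [g]
    group
  have hmu : ∀ c, ((cj c : ↥(D.group F)) : GL D.Idx F) ∈ hK F K → μ c = 1 := by
    intro c hc
    have := conj_hK hW h (monBy_nW hW h w) hwK hc
    rw [hcj] at this
    rw [show nW hW h F w * ((N⁻¹ * torE hW c * N : ↥(D.group F)) : GL D.Idx F) * (nW hW h F w)⁻¹ =
      torC D c by
        show nW hW h F w * ((nW hW h F w)⁻¹ * torC D c * nW hW h F w) * _ = _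
        group] at this
    obtain ⟨c', hc', ec⟩ := this
    obtain rfl := hinj ec
    show ∏ i, chr o i (c' i) = 1
    refine Finset.prod_eq_one fun i _ => ?_
    by_cases hi : i ∈ K'
    · simp [chr, (Finset.mem_filter.1 hi).2]
    · rw [hc' i hi, map_one]
  have hxne : x ≠ 0 := by
    intro h0
    set x₀ : ↥(D.group F) ⧸ P := (N : ↥(D.group F) ⧸ P)
    have hval : ∀ u ∈ uSub D F, (ρ (u * N) e') x₀ =
        ∑ c, (((μ c)⁻¹ : kˣ) : k) * if (u * torE hW c * N)⁻¹ * N ∈ P then 1 else 0 := by
      intro u _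
      rw [he', map_sum, Finset.sum_apply]
      refine Finset.sum_congr rfl fun c _ => ?_
      rw [map_smul, ← rho_mul_apply, Pi.smul_apply, smul_eq_mul, hρe, Pi.single_apply, hcj,
        show u * N * (N⁻¹ * torE hW c * N) = u * torE hW c * N by group]
      congr 1
      exact if_congr (eq_comm.trans QuotientGroup.eq) rfl rfl
    have hsum : (∑ c, if ((cj c : ↥(D.group F)) : GL D.Idx F) ∈ hK F K then (1 : k) else 0) =
        0 := by
      have h1 := congrFun h0 x₀
      rw [hx, tOp, Finset.sum_apply, Pi.zero_apply,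
        Finset.sum_eq_single (N : ↥(D.group F) ⧸ uSub D F)] at h1
      · rw [rho_out ρ hfix, ← one_mul N, hval 1 (one_mem _)] at h1
        refine Eq.trans (Finset.sum_congr rfl fun c _ => ?_) h1
        by_cases hc : ((cj c : ↥(D.group F)) : GL D.Idx F) ∈ hK F K
        · rw [if_pos hc, if_pos, hmu c hc, inv_one, Units.val_one, one_mul]
          refine Subgroup.mem_subgroupOf.2 ?_
          have := inv_mem (hK_le_derPar hW h hc)
          rw [hcj] at this
          convert this using 1
          show (1 * torC D c * (m : GL D.Idx F))⁻¹ * (m : GL D.Idx F) =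
            ((m : GL D.Idx F)⁻¹ * torC D c * m)⁻¹
          group
        · rw [if_neg hc, if_neg fun hP => hc (hS 1 (one_mem _) c hP).2, mul_zero]
      · intro y hy hyne
        obtain ⟨u, hu, rfl⟩ := mem_orb.1 hy
        rw [rho_out ρ hfix, hval u hu]
        refine Finset.sum_eq_zero fun c _ => ?_
        rw [if_neg, mul_zero]
        intro hP
        refine hyne (QuotientGroup.eq.2 ?_)
        rw [show (u * N)⁻¹ * N = (N⁻¹ * u * N)⁻¹ by group]
        exact inv_mem (hS u hu c hP).1
      · intro hn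
        exact absurd (mem_orb.2 ⟨1, one_mem _, by rw [one_mul]⟩) hn
    rw [Finset.sum_boole, CharP.cast_eq_zero_iff k p] at hsum
    let Sg : Subgroup (Fin D.rank → Fˣ) :=
      ((hK F K).comap ((D.group F).subtype.comp cj))
    have hcardS : Nat.card Sg =
        (Finset.univ.filter fun c => ((cj c : ↥(D.group F)) : GL D.Idx F) ∈ hK F K).card := by
      rw [← Fintype.card_subtype, ← Nat.card_eq_fintype_card]
      rfl
    rw [← hcardS] at hsum
    have h2 := hsum.trans Sg.card_subgroup_dvd_card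
    rw [Nat.card_pi, Finset.prod_const] at h2
    have h3 := (Fact.out : p.Prime).dvd_of_dvd_pow h2
    have h4 := card_units_eq_neg_one (F := F) (k := k) p
    rw [← Nat.card_eq_fintype_card, (CharP.cast_eq_zero_iff k p _).2 h3] at h4
    exact one_ne_zero (neg_eq_zero.1 h4.symm)
  exact nonempty_typedSimple_of_vec hW ⟨hxne, hvfix, hxtor, hxop⟩

end CfsgLib.ChevBrauer
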