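import Mathlib
import Cfsg.Agent.ChevBrauer.Exists
import Cfsg.Agent.ChevSteinberg.Data
import Cfsg.Agent.Chevalley.WeylData

/-!
# The number of classes of semisimple elements

When the torus parameters are faithful the simple modules correspond to the types, `q ^ l` in
number, so there are as many classes of elements of order prime to the characteristic.
-/

set_option autoImplicit false
set_option linter.unusedSectionVars false
set_option linter.style.haveILetI false

namespace CfsgLib.ChevBrauer

open Cfsg.Lie CfsgLib CfsgLib.Chevalley CfsgLib.ChevDefect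
open scoped MatrixGroups

universe u

variable {D : ChevalleyDatum} {F : Type u} [Field F] [Fintype F]

theorem card_wType (p : ℕ) [Fact p.Prime] [CharP F p] :
    Nat.card (WType D F (AlgebraicClosure (ZMod p))) = Fintype.card F ^ D.rank := by
  classical
  set k := AlgebraicClosure (ZMod p)
  have hne : NeZero ((Monoid.exponent Fˣ : ℕ) : k) := by
    refine ⟨fun h0 => ?_⟩
    rw [CharP.cast_eq_zero_iff k p] at h0
    have hd : p ∣ Nat.card Fˣ := h0.trans Group.exponent_dvd_nat_card
    have h4 := card_units_eq_neg_one (F := F) (k := k) p
    rw [← Nat.card_eq_fintype_card, (CharP.cast_eq_zero_iff k p _).2 hd] at h4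
    exact one_ne_zero (neg_eq_zero.1 h4.symm)
  haveI : Finite (Fˣ →* kˣ) := Nat.finite_of_card_ne_zero (by
    rw [CommGroup.card_monoidHom_of_hasEnoughRootsOfUnity]
    exact Nat.card_pos.ne')
  haveI : Fintype (Fˣ →* kˣ) := Fintype.ofFinite _
  rw [Nat.card_pi, Finset.prod_const, Finset.card_univ, Fintype.card_fin]
  congr 1
  rw [Finite.card_option, CommGroup.card_monoidHom_of_hasEnoughRootsOfUnity, Nat.card_units,
    Nat.card_eq_fintype_card]
  have := Fintype.card_pos (α := F)
  omega

/-- The classes of elements of order prime to the characteristic. -/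
theorem card_regClass (p : ℕ) [Fact p.Prime] [CharP F p]
    (hD : D ∈ [chevG2, chevB2, chevD4, chevF4, chevE6, chevE7, chevE8])
    (hcard : Nat.card (D.diagonalSubgroup F) = (Fintype.card F - 1) ^ D.rank) :
    Nat.card (RegClass p ↥(D.group F)) = Fintype.card F ^ D.rank := by
  classical
  set k := AlgebraicClosure (ZMod p)
  have hW := goodWeyl_of_mem hD
  obtain ⟨C, M, R, h⟩ := ChevSteinberg.exists_rootGood hD
  haveI : Fintype ↥(D.group F) := Fintype.ofFinite _
  have hinj : Function.Injective (torHom D F) := by
    have h1 : Nat.card (torHom D F).range = Nat.card (Fin D.rank → Fˣ) := by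
      rw [← diagonalSubgroup_eq_range hW, hcard, Nat.card_pi, Finset.prod_const, Finset.card_univ,
        Fintype.card_fin, Nat.card_units, Nat.card_eq_fintype_card]
    have h2 : Function.Bijective (torHom D F).rangeRestrict := by
      rw [Nat.bijective_iff_surjective_and_card]
      exact ⟨(torHom D F).rangeRestrict_surjective, h1.symm⟩
    exact fun a b e => h2.1 (Subtype.ext e)
  have htypes := card_wType (D := D) (F := F) p
  haveI : Finite (WType D F k) := Nat.finite_of_card_ne_zero (by
    rw [htypes]; exact pow_ne_zero _ Fintype.card_ne_zero)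
  haveI : Fintype (WType D F k) := Fintype.ofFinite _
  have hS : ∀ o : WType D F k, Nonempty (TypedSimple hW k o) :=
    nonempty_typedSimple hW h p hinj
  let S := fun o => (hS o).some
  letI := fun o => (S o).grp
  letI := fun o => (S o).mod
  haveI := fun o => (S o).fd
  rw [← htypes]
  refine le_antisymm ?_ ?_
  · refine card_regular_le (k := k) (fun o g => LinearMap.trace k _ ((S o).rep g))
      fun V _ _ _ σ hσ => ?_
    haveI := hσ.1
    obtain ⟨w, hw⟩ := exists_ne (0 : V)
    obtain ⟨o, v, hv⟩ := exists_hasType hW σ (p := p) h hw
    exact ⟨o, trace_eq_of_type (p := p) hσ (S o).simple hv (S o).hasType⟩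
  · refine le_card_regular (p := p) (fun o => (S o).carrier) (fun o => (S o).rep)
      (fun o => (S o).simple) fun o o' hne f hf => ?_
    by_contra hf0
    have hfv : f (S o).vec ≠ 0 := by
      intro h0
      refine hf0 (LinearMap.ker_eq_top.1 ?_)
      refine ((S o).simple.2 _ fun g y hy => ?_).resolve_left fun e => (S o).hasType.ne ?_
      · rw [LinearMap.mem_ker] at hy ⊢
        rw [hf, hy, map_zero]
      · rw [← Submodule.mem_bot k, ← e, LinearMap.mem_ker]
        exact h0
    exact hne (type_unique (p := p) h (S o').simple ((S o).hasType.map f hf hfv) (S o').hasType)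

end CfsgLib.ChevBrauer
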